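import Cfsg.Agent.Helper17.J1PTC.Perm

set_option autoImplicit false
set_option linter.all false
set_option maxRecDepth 100000
set_option maxHeartbeats 0
set_option Elab.async false

noncomputable section

namespace Cfsg.Agent.Helper17.J1PTC

open Cfsg.Spor Cfsg.Agent.Helper17.TCG Cfsg.Agent.Helper17.SmallSpor

def oidT : ℕ := 0x249248db91c71b6db6db6db6dc6db6db6db6db6db4db6db69a6d34db69b4936da6db49b69a4db6db6db49a4936d26926da4da6da4d26db6d369a4924db49a6d34da6934936d26d249369a6934924926d34934924924d249245249248949228a48948a248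

def oparT : ℕ := 0x208ff7e3e9f4fa82bd9eaec743a1cee8723a1c4e06fb79badc6eb65a0cc6cb59b6e06336d84e860b457ebf5eaf188bc5c2e16eb65aacd64b1582c158a95429548a450a7d3c9e4e26daa9a59a7d2eb54aa4d24d7492411e8f47239308b45225128844a190a8542211068340a013a7f3e1ecf6793d1e0ee763b1d0e671381bd5a6d3a9acd66a341a0ce6734198da6431988c46130980c05f2f274e65a2c994aa552a1a4a65229148a04f27134b64b25928944b249208e47231188a442190c844320914e63e270f078771c8e870371b0d86a351a0d06632190c46230180bc682e180b4585e150a85229140a04e27130984a261208c4426108803e1f0e874381b0d09832180d85c2c180b0502613090442010070381a0d0602c140a048281007030180a05020100604010040200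

def oletT : ℕ := 0x2397fe5cbe90aa0b49cb986768a68b8969bed4eddb92d889e216f91b475ed2cb6396eed6b8a4bb4ad8de4abf14ad8e763926fcdd8e5a4bcda4b2c486ded6e4ad8e4b0

def odepT : ℕ := 0x322222388811717177777777667777676066666676666666666666a55555556a7a65a6a5575a55aaa5555a5555aa555959944454444445996999944499499944499449454884883433338338488888833388383383834737747772227722777772272727746666666611616661666655555055555557444444446633335352224411302100

def oid (i : ℕ) : ℕ := Nat.land (Nat.shiftRight oidT (Nat.mul 3 i)) 7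

def opar (i : ℕ) : ℕ := Nat.land (Nat.shiftRight oparT (Nat.mul 9 i)) 511

def olet (i : ℕ) : ℕ := Nat.land (Nat.shiftRight oletT (Nat.mul 2 i)) 3

def odep (i : ℕ) : ℕ := Nat.land (Nat.shiftRight odepT (Nat.mul 4 i)) 15

def oroot : ℕ → ℕ
  | 0 => 0
  | 1 => 1
  | 2 => 4
  | 3 => 38
  | 4 => 232
  | _ => 0

def ClsStab : Subgroup (Equiv.Perm ℕ) where
  carrier := {π | ∀ i, i < N → oid (π i) = oid i ∧ π i < N}
  mul_mem' := by
    intro a b ha hb i hi
    rw [Equiv.Perm.mul_apply]
    obtain ⟨h1, h2⟩ := hb i hi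
    obtain ⟨h3, h4⟩ := ha _ h2
    exact ⟨h3.trans h1, h4⟩
  one_mem' := fun i hi => ⟨rfl, hi⟩
  inv_mem' := by
    intro π h i hi
    have hmaps : Set.MapsTo π (Finset.range N : Set ℕ) (Finset.range N : Set ℕ) := by
      intro j hj
      simp only [Finset.coe_range, Set.mem_Iio] at hj ⊢
      exact (h j hj).2
    have hsurj : Set.SurjOn π (Finset.range N : Set ℕ) (Finset.range N : Set ℕ) :=
      Finset.surjOn_of_injOn_of_card_le π hmaps (π.injective.injOn) le_rfl
    obtain ⟨j, hj, hji⟩ := hsurj (by simpa using hi : i ∈ (Finset.range N : Set ℕ))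
    simp only [Finset.coe_range, Set.mem_Iio] at hj
    have : π⁻¹ i = j := by rw [Equiv.Perm.inv_eq_iff_eq]; exact hji.symm
    rw [this]
    exact ⟨by rw [← hji]; exact ((h j hj).1).symm, hj⟩

def pCls (k i : ℕ) : Bool := Nat.beq (oid (evalC (subW k) i)) (oid i)

def pClsK (cw : List ℕ) (i : ℕ) : Bool := Nat.beq (oid (evalK cw i)) (oid i)

def kS0 : List ℕ := [c0]

theorem CLS0_0 : allR 0 266 (pClsK kS0) = true := by decide +kernel

theorem CLS0_all : ∀ i, i < N → (pClsK kS0) i = true := by
  intro i hi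
  have hN : N = 266 := rfl
  exact (allR_iff _ _ _).mp CLS0_0 i (by omega) (by omega)

theorem CLSW0 : ∀ i, i < N → pCls 0 i = true := fun i hi => by
  rw [pCls, evalC_eq_evalK, show (subW 0).map colOf = kS0 from rfl]
  exact CLS0_all i hi

def kS1 : List ℕ := [c1]

theorem CLS1_0 : allR 0 266 (pClsK kS1) = true := by decide +kernel

theorem CLS1_all : ∀ i, i < N → (pClsK kS1) i = true := by
  intro i hi
  have hN : N = 266 := rfl
  exact (allR_iff _ _ _).mp CLS1_0 i (by omega) (by omega)

theorem CLSW1 : ∀ i, i < N → pCls 1 i = true := fun i hi => by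
  rw [pCls, evalC_eq_evalK, show (subW 1).map colOf = kS1 from rfl]
  exact CLS1_all i hi

def kS2 : List ℕ := [c2]

theorem CLS2_0 : allR 0 266 (pClsK kS2) = true := by decide +kernel

theorem CLS2_all : ∀ i, i < N → (pClsK kS2) i = true := by
  intro i hi
  have hN : N = 266 := rfl
  exact (allR_iff _ _ _).mp CLS2_0 i (by omega) (by omega)

theorem CLSW2 : ∀ i, i < N → pCls 2 i = true := fun i hi => by
  rw [pCls, evalC_eq_evalK, show (subW 2).map colOf = kS2 from rfl]
  exact CLS2_all i hi

def kS3 : List ℕ := [c3]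

theorem CLS3_0 : allR 0 266 (pClsK kS3) = true := by decide +kernel

theorem CLS3_all : ∀ i, i < N → (pClsK kS3) i = true := by
  intro i hi
  have hN : N = 266 := rfl
  exact (allR_iff _ _ _).mp CLS3_0 i (by omega) (by omega)

theorem CLSW3 : ∀ i, i < N → pCls 3 i = true := fun i hi => by
  rw [pCls, evalC_eq_evalK, show (subW 3).map colOf = kS3 from rfl]
  exact CLS3_all i hi

theorem CLS_all : ∀ k, k < nsub → ∀ i, i < N → pCls k i = true := by
  intro k hk
  unfold nsub at hk
  interval_cases k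
  · exact CLSW0
  · exact CLSW1
  · exact CLSW2
  · exact CLSW3

theorem phi_cls : ∀ h ∈ Hs, ∀ i, i < N → oid (phi h i) = oid i := by
  intro h hh i hi
  have := Hs_le ClsStab (fun k hk => by
    intro i hi
    rw [permw_apply]
    refine ⟨?_, evalw_lt _ hi⟩
    rw [evalw_eq_evalC _ (subW_lt hk) hi]
    exact nbeq.mp (CLS_all k hk i hi)) h hh
  exact (this i hi).1

def pOrb (i : ℕ) : Bool :=
  Nat.beq i (oroot (oid i)) ||
    (Nat.ble (Nat.succ (opar i)) N && Nat.beq (oid (opar i)) (oid i) &&
      Nat.ble (Nat.succ (odep (opar i))) (odep i) &&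
      Nat.ble (Nat.succ (olet i)) nsub && Nat.beq (evalC (subW (olet i)) (opar i)) i)

theorem ORB_0 : allR 0 266 (pOrb) = true := by decide +kernel

theorem ORB_all : ∀ i, i < N → (pOrb) i = true := by
  intro i hi
  have hN : N = 266 := rfl
  exact (allR_iff _ _ _).mp ORB_0 i (by omega) (by omega)

theorem orb_reach (c : ℕ) : ∀ d i, i < N → odep i = d → oid i = c →
    ∃ h ∈ Hs, phi h (oroot c) = i := by
  intro d
  induction d using Nat.strong_induction_on with
  | _ d ih =>
    intro i hi hd hc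
    have h := ORB_all i hi
    simp only [pOrb, Bool.or_eq_true, Bool.and_eq_true, nble_succ, nbeq] at h
    rcases h with h | ⟨⟨⟨⟨h1, h2⟩, h3⟩, h4⟩, h5⟩
    · exact ⟨1, Hs.one_mem, by rw [map_one, Equiv.Perm.one_apply, ← hc, ← h]⟩
    · obtain ⟨h', hh', e⟩ := ih (odep (opar i)) (hd ▸ h3) (opar i) h1 rfl (h2.trans hc)
      obtain ⟨s, hs, es⟩ := subW_mem (olet i) h4
      refine ⟨PresentedGroup.mk Rels s * h', Hs.mul_mem ?_ hh', ?_⟩
      · rw [Hs_eq]
        exact Subgroup.mem_map_of_mem _ (Subgroup.subset_closure hs)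
      · rw [map_mul, Equiv.Perm.mul_apply, e, es, permw_apply,
          evalw_eq_evalC _ (subW_lt h4) h1, h5]

theorem orbit_ncard (c r : ℕ) (hr : r < N) (hroot : oroot c = r) (hc : oid r = c) :
    (MulAction.orbit Hs (nd r)).ncard = ((Finset.range N).filter (fun i => oid i = c)).card := by
  rw [TCG.orbit_ncard_eq Hs phi hH psi_inj (nd r) ↑((Finset.range N).filter (fun i => oid i = c)),
    Set.ncard_coe_finset]
  · intro h hh
    show phi h (psiQ (nd r)) ∈ _
    rw [hpsi r hr]
    simp only [Finset.coe_filter, Finset.mem_range, Set.mem_setOf_eq]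
    exact ⟨phi_lt h hr, (phi_cls h hh r hr).trans hc⟩
  · intro i hi
    simp only [Finset.coe_filter, Finset.mem_range, Set.mem_setOf_eq] at hi
    obtain ⟨h, hh, e⟩ := orb_reach c (odep i) i hi.1 rfl hi.2
    refine ⟨h, hh, ?_⟩
    show phi h (psiQ (nd r)) = i
    rw [hpsi r hr, ← hroot, e]

theorem orbit_ne (r r' : ℕ) (hr : r < N) (hr' : r' < N) (hne : oid r ≠ oid r') :
    MulAction.orbit Hs (nd r) ≠ MulAction.orbit Hs (nd r') := by
  intro heq
  have hmem : nd r' ∈ MulAction.orbit Hs (nd r) := heq ▸ MulAction.mem_orbit_self _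
  obtain ⟨⟨h, hh⟩, e⟩ := hmem
  have e' : h • nd r = nd r' := e
  have := congrArg psiQ e'
  unfold psiQ at this
  rw [TCG.psi_smul] at this
  have h1 : phi h r = r' := by
    have a1 := hpsi r hr
    have a2 := hpsi r' hr'
    unfold psiQ at a1 a2
    rw [a1, a2] at this
    exact this
  exact hne ((phi_cls h hh r hr).symm.trans (by rw [h1]))


end Cfsg.Agent.Helper17.J1PTC
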