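import Cfsg.Agent.Helper17.J1PTC.Lemmas

set_option autoImplicit false
set_option linter.all false

noncomputable section

namespace Cfsg.Agent.Helper17.J1PTC

theorem F1 : act 0 n0 = n0 := d13_0 B0 
theorem F2 : act 1 n0 = n0 := d14_0 B1 
theorem F3 : act 2 n0 = n0 := d15_0 B2 
theorem F4 : act 3 n0 = n0 := d16_0 B3 
def n1 : Q := act 4 n0
theorem D1 : act 4 n0 = n1 := rfl
theorem F5 : act 0 n1 = n1 := d3_1 D1 (iv D1) F1
theorem F6 : act 1 n1 = n1 := d6_1 D1 (iv D1) F2
theorem F7 : act 2 n1 = n1 := d8_1 D1 (iv D1) F3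
def n2 : Q := act 3 n1
theorem D2 : act 3 n1 = n2 := rfl
theorem F8 : act 0 n2 = n2 := d2_1 D2 (iv D2) F5
theorem F9 : act 1 n2 = n2 := d5_1 D2 (iv D2) F6
def n3 : Q := act 2 n2
theorem D3 : act 2 n2 = n3 := rfl
theorem F10 : act 0 n3 = n3 := d1_1 D3 (iv D3) F8
theorem F11 : act 3 n3 = n3 := d7_2 D2 D3 (iv D3) (iv D2) F7
def n4 : Q := act 4 n2
theorem D4 : act 4 n2 = n4 := rfl
theorem F12 : act 0 n4 = n4 := d3_1 D4 (iv D4) F8
theorem F13 : act 1 n4 = n4 := d6_1 D4 (iv D4) F9
def n5 : Q := act 1 n3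
theorem D5 : act 1 n3 = n5 := rfl
theorem F14 : act 3 n5 = n5 := d5_2 F11 D5 (iv D5)
def n6 : Q := act 4 n3
theorem D6 : act 4 n3 = n6 := rfl
theorem F15 : act 0 n6 = n6 := d3_1 D6 (iv D6) F10
theorem F16 : act 2 n6 = n4 := d8_1 D6 (iv D4) D3
def n7 : Q := act 3 n4
theorem D7 : act 3 n4 = n7 := rfl
theorem F17 : act 0 n7 = n7 := d2_1 D7 (iv D7) F12
theorem F18 : act 1 n7 = n7 := d5_1 D7 (iv D7) F13
theorem F19 : act 4 n7 = n7 := d9_2 D4 D7 (iv D7) (iv D4) (iv D2) (iv D1) F4 D1 D2
def n8 : Q := act 0 n5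
theorem D8 : act 0 n5 = n8 := rfl
theorem F20 : act 1 n8 = n8 := d0_2 D5 D8 (iv D8) (iv D5) F10
theorem F21 : act 3 n8 = n8 := d2_2 F14 D8 (iv D8)
def n9 : Q := act 2 n5
theorem D9 : act 2 n5 = n9 := rfl
def n10 : Q := act 4 n5
theorem D10 : act 4 n5 = n10 := rfl
theorem F22 : act 1 n10 = n6 := d6_1 D10 (iv D6) D5
def n11 : Q := act 3 n6
theorem D11 : act 3 n6 = n11 := rfl
theorem F23 : act 0 n11 = n11 := d2_1 D11 (iv D11) F15
def n12 : Q := act 2 n7
theorem D12 : act 2 n7 = n12 := rfl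
theorem F24 : act 0 n12 = n12 := d1_1 D12 (iv D12) F17
theorem F25 : act 4 n12 = n12 := d8_2 F19 D12 (iv D12)
def n13 : Q := act 2 n8
theorem D13 : act 2 n8 = n13 := rfl
theorem F26 : act 0 n13 = n9 := d1_1 D13 (iv D9) D8
def n14 : Q := act 4 n8
theorem D14 : act 4 n8 = n14 := rfl
theorem F27 : act 0 n14 = n10 := d3_1 D14 (iv D10) D8
theorem F28 : act 1 n14 = n14 := d6_1 D14 (iv D14) F20
def n15 : Q := act 1 n9
theorem D15 : act 1 n9 = n15 := rfl
theorem F29 : act 2 n15 = n15 := d4_2 D9 D15 (iv D15) (iv D9) (iv D5) (iv D3) F9 D3 D5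
theorem F30 : act 3 n15 = n9 := d11_3 F14 D9 D15 (iv D9) (iv D5) F11 (iv D3) F9 (iv D2) F7 F6 D2 D3 D5
def n16 : Q := act 4 n9
theorem D16 : act 4 n9 = n16 := rfl
theorem F31 : act 2 n16 = n10 := d8_1 D16 (iv D10) D9
def n17 : Q := act 3 n10
theorem D17 : act 3 n10 = n17 := rfl
theorem F32 : act 1 n17 = n11 := d5_1 D17 (iv D11) (iv F22)
def n18 : Q := act 2 n11
theorem D18 : act 2 n11 = n18 := rfl
theorem F33 : act 0 n18 = n18 := d1_1 D18 (iv D18) F23
theorem F34 : act 3 n18 = n12 := d7_2 D11 D18 (iv D12) (iv D7) (iv F16)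
theorem F35 : act 4 n18 = n11 := d12_3 D6 D11 D18 (iv D11) (iv D6) (iv D3) (iv D2) (iv D1) F3 F4 D1 F7 D2 D3 F10
def n19 : Q := act 1 n12
theorem D19 : act 1 n12 = n19 := rfl
theorem F36 : act 4 n19 = n19 := d6_2 F25 D19 (iv D19)
def n20 : Q := act 1 n13
theorem D20 : act 1 n13 = n20 := rfl
def n21 : Q := act 3 n13
theorem D21 : act 3 n13 = n21 := rfl
theorem F37 : act 0 n21 = n15 := d2_1 D21 F30 (iv F26)
theorem F38 : act 2 n21 = n21 := d7_1 D21 (iv D21) (iv D13) F21 D13
def n22 : Q := act 4 n13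
theorem D22 : act 4 n13 = n22 := rfl
theorem F39 : act 0 n22 = n16 := d3_1 D22 (iv D16) (iv F26)
theorem F40 : act 2 n22 = n14 := d8_1 D22 (iv D14) D13
def n23 : Q := act 3 n14
theorem D23 : act 3 n14 = n23 := rfl
theorem F41 : act 0 n23 = n17 := d2_1 D23 (iv D17) (iv F27)
theorem F42 : act 1 n23 = n23 := d5_1 D23 (iv D23) F28
def n24 : Q := act 4 n15
theorem D24 : act 4 n15 = n24 := rfl
theorem F43 : act 1 n24 = n16 := d6_1 D24 (iv D16) D15
theorem F44 : act 2 n24 = n24 := d8_1 D24 (iv D24) F29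
def n25 : Q := act 3 n16
theorem D25 : act 3 n16 = n25 := rfl
def n26 : Q := act 2 n17
theorem D26 : act 2 n17 = n26 := rfl
def n27 : Q := act 4 n17
theorem D27 : act 4 n17 = n27 := rfl
theorem F45 : act 1 n27 = n18 := d6_1 D27 F35 (iv F32)
theorem F46 : act 3 n19 = n27 := d5_0 F45 F34 D19
def n28 : Q := act 0 n19
theorem D28 : act 0 n19 = n28 := rfl
theorem F47 : act 1 n28 = n28 := d0_2 D19 D28 (iv D28) (iv D19) F24
theorem F48 : act 4 n28 = n28 := d3_2 F36 D28 (iv D28)
def n29 : Q := act 2 n19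
theorem D29 : act 2 n19 = n29 := rfl
theorem F49 : act 4 n29 = n29 := d8_2 F36 D29 (iv D29)
def n30 : Q := act 0 n20
theorem D30 : act 0 n20 = n30 := rfl
theorem F50 : act 1 n30 = n21 := d0_2 D20 D30 F37 (iv D15) (iv F26)
theorem F51 : act 2 n30 = n20 := d10_3 D13 D20 D30 (iv D20) F26 (iv D9) (iv D5) F10 (iv D3) F9 F8 D3 D5 D8
theorem F52 : act 3 n20 = n30 := d5_0 F50 (iv D21) D20
def n31 : Q := act 4 n20
theorem D31 : act 4 n20 = n31 := rfl
theorem F53 : act 1 n31 = n22 := d6_1 D31 (iv D22) D20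
def n32 : Q := act 4 n21
theorem D32 : act 4 n21 = n32 := rfl
theorem F54 : act 0 n32 = n24 := d3_1 D32 (iv D24) (iv F37)
theorem F55 : act 2 n32 = n32 := d8_1 D32 (iv D32) F38
def n33 : Q := act 3 n22
theorem D33 : act 3 n22 = n33 := rfl
theorem F56 : act 0 n33 = n25 := d2_1 D33 (iv D25) (iv F39)
def n34 : Q := act 2 n23
theorem D34 : act 2 n23 = n34 := rfl
theorem F57 : act 0 n34 = n26 := d1_1 D34 (iv D26) (iv F41)
def n35 : Q := act 4 n23
theorem D35 : act 4 n23 = n35 := rfl
theorem F58 : act 0 n35 = n27 := d3_1 D35 (iv D27) (iv F41)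
theorem F59 : act 1 n35 = n35 := d6_1 D35 (iv D35) F42
theorem F60 : act 3 n28 = n35 := d2_0 F58 (iv F46) D28
def n36 : Q := act 3 n24
theorem D36 : act 3 n24 = n36 := rfl
theorem F61 : act 1 n36 = n25 := d5_1 D36 (iv D25) (iv F43)
def n37 : Q := act 2 n25
theorem D37 : act 2 n25 = n37 := rfl
theorem F62 : act 3 n37 = n26 := d7_2 D25 D37 (iv D26) (iv D17) (iv F31)
def n38 : Q := act 4 n25
theorem D38 : act 4 n25 = n38 := rfl
def n39 : Q := act 1 n26
theorem D39 : act 1 n26 = n39 := rfl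
def n40 : Q := act 4 n26
theorem D40 : act 4 n26 = n40 := rfl
theorem F63 : act 2 n40 = n27 := d8_1 D40 (iv D27) D26
def n41 : Q := act 2 n28
theorem D41 : act 2 n28 = n41 := rfl
theorem F64 : act 0 n41 = n29 := d1_1 D41 (iv D29) D28
theorem F65 : act 4 n41 = n41 := d8_2 F48 D41 (iv D41)
def n42 : Q := act 1 n29
theorem D42 : act 1 n29 = n42 := rfl
theorem F66 : act 2 n42 = n42 := d4_2 D29 D42 (iv D42) (iv D29) (iv D19) (iv D12) F18 D12 D19
theorem F67 : act 4 n42 = n42 := d6_2 F49 D42 (iv D42)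
def n43 : Q := act 3 n29
theorem D43 : act 3 n29 = n43 := rfl
def n44 : Q := act 4 n30
theorem D44 : act 4 n30 = n44 := rfl
theorem F68 : act 0 n44 = n31 := d3_1 D44 (iv D31) D30
theorem F69 : act 1 n44 = n32 := d6_1 D44 (iv D32) (iv F50)
theorem F70 : act 2 n44 = n31 := d8_1 D44 (iv D31) (iv F51)
def n45 : Q := act 3 n31
theorem D45 : act 3 n31 = n45 := rfl
theorem F71 : act 1 n45 = n33 := d5_1 D45 (iv D33) (iv F53)
def n46 : Q := act 3 n32
theorem D46 : act 3 n32 = n46 := rfl
theorem F72 : act 0 n46 = n36 := d2_1 D46 (iv D36) (iv F54)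
def n47 : Q := act 2 n33
theorem D47 : act 2 n33 = n47 := rfl
theorem F73 : act 0 n47 = n37 := d1_1 D47 (iv D37) (iv F56)
theorem F74 : act 3 n47 = n34 := d7_2 D33 D47 (iv D34) (iv D23) (iv F40)
def n48 : Q := act 4 n33
theorem D48 : act 4 n33 = n48 := rfl
theorem F75 : act 0 n48 = n38 := d3_1 D48 (iv D38) (iv F56)
def n49 : Q := act 1 n34
theorem D49 : act 1 n34 = n49 := rfl
def n50 : Q := act 4 n34
theorem D50 : act 4 n34 = n50 := rfl
theorem F76 : act 0 n50 = n40 := d3_1 D50 (iv D40) (iv F57)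
theorem F77 : act 2 n50 = n35 := d8_1 D50 (iv D35) D34
def n51 : Q := act 2 n36
theorem D51 : act 2 n36 = n51 := rfl
theorem F78 : act 3 n51 = n51 := d7_2 D36 D51 (iv D51) (iv D36) F44
def n52 : Q := act 4 n36
theorem D52 : act 4 n36 = n52 := rfl
theorem F79 : act 1 n52 = n38 := d6_1 D52 (iv D38) (iv F61)
def n53 : Q := act 1 n37
theorem D53 : act 1 n37 = n53 := rfl
theorem F80 : act 3 n53 = n39 := d5_2 (iv F62) D53 (iv D39)
def n54 : Q := act 4 n37
theorem D54 : act 4 n37 = n54 := rfl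
theorem F81 : act 2 n54 = n38 := d8_1 D54 (iv D38) D37
def n55 : Q := act 3 n38
theorem D55 : act 3 n38 = n55 := rfl
def n56 : Q := act 0 n39
theorem D56 : act 0 n39 = n56 := rfl
def n57 : Q := act 2 n39
theorem D57 : act 2 n39 = n57 := rfl
def n58 : Q := act 4 n39
theorem D58 : act 4 n39 = n58 := rfl
theorem F82 : act 1 n58 = n40 := d6_1 D58 (iv D40) D39
def n59 : Q := act 3 n40
theorem D59 : act 3 n40 = n59 := rfl
theorem F83 : act 2 n59 = n43 := d7_1 D59 (iv D43) (iv D29) F46 (iv F63)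
def n60 : Q := act 1 n41
theorem D60 : act 1 n41 = n60 := rfl
theorem F84 : act 4 n60 = n60 := d6_2 F65 D60 (iv D60)
def n61 : Q := act 3 n41
theorem D61 : act 3 n41 = n61 := rfl
theorem F85 : act 0 n61 = n43 := d2_1 D61 (iv D43) (iv F64)
def n62 : Q := act 0 n42
theorem D62 : act 0 n42 = n62 := rfl
theorem F86 : act 2 n62 = n62 := d1_2 F66 D62 (iv D62)
theorem F87 : act 4 n62 = n62 := d3_2 F67 D62 (iv D62)
def n63 : Q := act 3 n42
theorem D63 : act 3 n42 = n63 := rfl
theorem F88 : act 1 n63 = n43 := d5_1 D63 (iv D43) D42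
def n64 : Q := act 4 n43
theorem D64 : act 4 n43 = n64 := rfl
def n65 : Q := act 3 n44
theorem D65 : act 3 n44 = n65 := rfl
theorem F89 : act 0 n65 = n45 := d2_1 D65 (iv D45) (iv F68)
theorem F90 : act 1 n65 = n46 := d5_1 D65 (iv D46) (iv F69)
def n66 : Q := act 2 n45
theorem D66 : act 2 n45 = n66 := rfl
def n67 : Q := act 4 n45
theorem D67 : act 4 n45 = n67 := rfl
theorem F91 : act 1 n67 = n48 := d6_1 D67 (iv D48) (iv F71)
def n68 : Q := act 2 n46
theorem D68 : act 2 n46 = n68 := rfl
theorem F92 : act 0 n68 = n51 := d1_1 D68 (iv D51) (iv F72)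
theorem F93 : act 3 n68 = n68 := d7_2 D46 D68 (iv D68) (iv D46) F55
def n69 : Q := act 4 n46
theorem D69 : act 4 n46 = n69 := rfl
theorem F94 : act 0 n69 = n52 := d3_1 D69 (iv D52) (iv F72)
def n70 : Q := act 1 n47
theorem D70 : act 1 n47 = n70 := rfl
theorem F95 : act 3 n70 = n49 := d5_2 (iv F74) D70 (iv D49)
def n71 : Q := act 4 n47
theorem D71 : act 4 n47 = n71 := rfl
theorem F96 : act 0 n71 = n54 := d3_1 D71 (iv D54) (iv F73)
theorem F97 : act 2 n71 = n48 := d8_1 D71 (iv D48) D47
def n72 : Q := act 3 n48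
theorem D72 : act 3 n48 = n72 := rfl
theorem F98 : act 0 n72 = n55 := d2_1 D72 (iv D55) (iv F75)
def n73 : Q := act 0 n49
theorem D73 : act 0 n49 = n73 := rfl
theorem F99 : act 1 n73 = n56 := d0_2 D49 D73 (iv D56) (iv D39) (iv F57)
def n74 : Q := act 2 n49
theorem D74 : act 2 n49 = n74 := rfl
def n75 : Q := act 4 n49
theorem D75 : act 4 n49 = n75 := rfl
theorem F100 : act 1 n75 = n50 := d6_1 D75 (iv D50) D49
def n76 : Q := act 3 n50
theorem D76 : act 3 n50 = n76 := rfl
theorem F101 : act 0 n76 = n59 := d2_1 D76 (iv D59) (iv F76)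
theorem F102 : act 2 n76 = n61 := d7_1 D76 (iv D61) (iv D41) F60 (iv F77)
def n77 : Q := act 1 n51
theorem D77 : act 1 n51 = n77 := rfl
theorem F103 : act 3 n77 = n77 := d5_2 F78 D77 (iv D77)
theorem F104 : act 2 n77 = n63 := d11_4 D36 D51 D77 F103 F88 (iv D43) (iv D29) (iv D19) (iv F34) (iv D18) (iv F32) (iv D17) (iv F31) (iv F43)
def n78 : Q := act 4 n51
theorem D78 : act 4 n51 = n78 := rfl
theorem F105 : act 2 n78 = n52 := d8_1 D78 (iv D52) D51
def n79 : Q := act 3 n52
theorem D79 : act 3 n52 = n79 := rfl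
theorem F106 : act 1 n79 = n55 := d5_1 D79 (iv D55) (iv F79)
theorem F107 : act 4 n79 = n55 := d9_2 D52 D79 (iv D55) (iv D38) (iv D25) (iv D16) (iv F30) D24 D36
def n80 : Q := act 0 n53
theorem D80 : act 0 n53 = n80 := rfl
theorem F108 : act 3 n80 = n56 := d2_2 (iv F80) D80 (iv D56)
def n81 : Q := act 2 n53
theorem D81 : act 2 n53 = n81 := rfl
theorem F109 : act 1 n81 = n59 := d4_1 D81 F83 (iv F88) (iv F104) (iv D77) (iv D51) F61 D37 D53
theorem F110 : act 3 n58 = n81 := d11_0 (iv D81) (iv D53) F62 (iv D26) F32 (iv D11) F16 F13 D7 D12 D19 F46 (iv F63) (iv F82)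
def n82 : Q := act 4 n53
theorem D82 : act 4 n53 = n82 := rfl
theorem F111 : act 1 n82 = n54 := d6_1 D82 (iv D54) D53
def n83 : Q := act 3 n54
theorem D83 : act 3 n54 = n83 := rfl
def n84 : Q := act 2 n55
theorem D84 : act 2 n55 = n84 := rfl
def n85 : Q := act 2 n56
theorem D85 : act 2 n56 = n85 := rfl
theorem F112 : act 0 n85 = n57 := d1_1 D85 (iv D57) D56
def n86 : Q := act 4 n56
theorem D86 : act 4 n56 = n86 := rfl
theorem F113 : act 0 n86 = n58 := d3_1 D86 (iv D58) D56
def n87 : Q := act 1 n57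
theorem D87 : act 1 n57 = n87 := rfl
theorem F114 : act 2 n87 = n58 := d4_2 D57 D87 F82 F63 F45 (iv D18) (iv F32) D26 D39
theorem F115 : act 3 n87 = n57 := d11_3 F80 D57 D87 (iv D57) (iv D39) (iv F62) (iv D37) (iv F61) (iv D36) F44 F43 D25 D37 D53
theorem F116 : act 4 n57 = n87 := d8_0 F114 (iv D58) D57
def n88 : Q := act 4 n59
theorem D88 : act 4 n59 = n88 := rfl
theorem F117 : act 2 n88 = n64 := d8_1 D88 (iv D64) (iv F83)
def n89 : Q := act 0 n60
theorem D89 : act 0 n60 = n89 := rfl
theorem F118 : act 1 n89 = n62 := d0_2 D60 D89 (iv D62) (iv D42) (iv F64)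
theorem F119 : act 4 n89 = n89 := d3_2 F84 D89 (iv D89)
theorem F120 : act 2 n89 = n60 := d10_3 D41 D60 D89 (iv D60) F64 (iv D29) (iv D19) F24 (iv D12) F18 F17 D12 D19 D28
def n90 : Q := act 3 n60
theorem D90 : act 3 n60 = n90 := rfl
theorem F121 : act 1 n90 = n61 := d5_1 D90 (iv D61) D60
def n91 : Q := act 4 n61
theorem D91 : act 4 n61 = n91 := rfl
theorem F122 : act 0 n91 = n64 := d3_1 D91 (iv D64) (iv F85)
theorem F123 : act 3 n91 = n78 := d12_1 D91 F105 (iv D52) (iv D36) (iv D24) F29 F30 D16 F31 D17 D27 (iv F63) D59 F83 (iv F85)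
def n92 : Q := act 3 n62
theorem D92 : act 3 n62 = n92 := rfl
theorem F124 : act 0 n92 = n63 := d2_1 D92 (iv D63) D62
def n93 : Q := act 4 n63
theorem D93 : act 4 n63 = n93 := rfl
theorem F125 : act 1 n93 = n64 := d6_1 D93 (iv D64) (iv F88)
def n94 : Q := act 3 n64
theorem D94 : act 3 n64 = n94 := rfl
theorem F126 : act 0 n94 = n78 := d2_1 D94 (iv F123) F122
theorem F127 : act 2 n94 = n69 := d12_2 D64 D94 (iv D69) (iv D46) (iv D32) F38 (iv D21) D22 F40 D23 D35 (iv F77) D76 F102 F85
theorem F128 : act 4 n94 = n68 := d12_5 D40 D59 F83 D64 D94 (iv D68) (iv D46) (iv D32) F38 (iv D21) D22 F40 D23 D34 F57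
def n95 : Q := act 2 n65
theorem D95 : act 2 n65 = n95 := rfl
theorem F129 : act 0 n95 = n66 := d1_1 D95 (iv D66) (iv F89)
theorem F130 : act 3 n95 = n66 := d7_2 D65 D95 (iv D66) (iv D45) (iv F70)
def n96 : Q := act 4 n65
theorem D96 : act 4 n65 = n96 := rfl
theorem F131 : act 0 n96 = n67 := d3_1 D96 (iv D67) (iv F89)
theorem F132 : act 1 n96 = n69 := d6_1 D96 (iv D69) (iv F90)
def n97 : Q := act 1 n66
theorem D97 : act 1 n66 = n97 := rfl
def n98 : Q := act 4 n66
theorem D98 : act 4 n66 = n98 := rfl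
theorem F133 : act 2 n98 = n67 := d8_1 D98 (iv D67) D66
def n99 : Q := act 3 n67
theorem D99 : act 3 n67 = n99 := rfl
theorem F134 : act 1 n99 = n72 := d5_1 D99 (iv D72) (iv F91)
def n100 : Q := act 1 n68
theorem D100 : act 1 n68 = n100 := rfl
theorem F135 : act 3 n100 = n100 := d5_2 F93 D100 (iv D100)
def n101 : Q := act 3 n69
theorem D101 : act 3 n69 = n101 := rfl
theorem F136 : act 0 n101 = n79 := d2_1 D101 (iv D79) (iv F94)
theorem F137 : act 4 n101 = n72 := d9_2 D69 D101 (iv D72) (iv D48) (iv D33) (iv D22) D21 D32 D46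
def n102 : Q := act 0 n70
theorem D102 : act 0 n70 = n102 := rfl
theorem F138 : act 1 n102 = n80 := d0_2 D70 D102 (iv D80) (iv D53) (iv F73)
theorem F139 : act 3 n102 = n73 := d2_2 (iv F95) D102 (iv D73)
def n103 : Q := act 2 n70
theorem D103 : act 2 n70 = n103 := rfl
def n104 : Q := act 4 n70
theorem D104 : act 4 n70 = n104 := rfl
theorem F140 : act 1 n104 = n71 := d6_1 D104 (iv D71) D70
def n105 : Q := act 3 n71
theorem D105 : act 3 n71 = n105 := rfl
theorem F141 : act 0 n105 = n83 := d2_1 D105 (iv D83) (iv F96)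
def n106 : Q := act 2 n72
theorem D106 : act 2 n72 = n106 := rfl
theorem F142 : act 0 n106 = n84 := d1_1 D106 (iv D84) (iv F98)
def n107 : Q := act 2 n73
theorem D107 : act 2 n73 = n107 := rfl
theorem F143 : act 0 n107 = n74 := d1_1 D107 (iv D74) D73
def n108 : Q := act 4 n73
theorem D108 : act 4 n73 = n108 := rfl
theorem F144 : act 0 n108 = n75 := d3_1 D108 (iv D75) D73
theorem F145 : act 1 n108 = n86 := d6_1 D108 (iv D86) (iv F99)
def n109 : Q := act 1 n74
theorem D109 : act 1 n74 = n109 := rfl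
theorem F146 : act 2 n109 = n109 := d4_2 D74 D109 (iv D109) (iv D74) (iv D49) (iv D34) F42 D34 D49
def n110 : Q := act 3 n74
theorem D110 : act 3 n74 = n110 := rfl
def n111 : Q := act 4 n74
theorem D111 : act 4 n74 = n111 := rfl
theorem F147 : act 2 n111 = n75 := d8_1 D111 (iv D75) D74
def n112 : Q := act 3 n75
theorem D112 : act 3 n75 = n112 := rfl
theorem F148 : act 1 n112 = n76 := d5_1 D112 (iv D76) (iv F100)
def n113 : Q := act 4 n76
theorem D113 : act 4 n76 = n113 := rfl
theorem F149 : act 0 n113 = n88 := d3_1 D113 (iv D88) (iv F101)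
theorem F150 : act 2 n113 = n91 := d8_1 D113 (iv D91) (iv F102)
def n114 : Q := act 0 n77
theorem D114 : act 0 n77 = n114 := rfl
theorem F151 : act 2 n114 = n92 := d1_2 (iv F104) D114 F124
theorem F152 : act 3 n114 = n114 := d2_2 F103 D114 (iv D114)
def n115 : Q := act 4 n77
theorem D115 : act 4 n77 = n115 := rfl
theorem F153 : act 1 n115 = n78 := d6_1 D115 (iv D78) D77
theorem F154 : act 2 n115 = n93 := d8_1 D115 (iv D93) (iv F104)
def n116 : Q := act 2 n79
theorem D116 : act 2 n79 = n116 := rfl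
theorem F155 : act 3 n116 = n113 := d7_2 D79 D116 F150 F123 F105
theorem F156 : act 4 n116 = n84 := d8_2 (iv F107) D116 (iv D84)
def n117 : Q := act 2 n80
theorem D117 : act 2 n80 = n117 := rfl
theorem F157 : act 0 n117 = n81 := d1_1 D117 (iv D81) D80
theorem F158 : act 3 n86 = n117 := d2_0 F157 (iv F110) (iv F113)
def n118 : Q := act 4 n80
theorem D118 : act 4 n80 = n118 := rfl
theorem F159 : act 0 n118 = n82 := d3_1 D118 (iv D82) D80
def n119 : Q := act 4 n81
theorem D119 : act 4 n81 = n119 := rfl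
theorem F160 : act 1 n119 = n88 := d6_1 D119 (iv D88) (iv F109)
theorem F161 : act 2 n119 = n82 := d8_1 D119 (iv D82) D81
def n120 : Q := act 3 n82
theorem D120 : act 3 n82 = n120 := rfl
theorem F162 : act 1 n120 = n83 := d5_1 D120 (iv D83) (iv F111)
def n121 : Q := act 2 n83
theorem D121 : act 2 n83 = n121 := rfl
theorem F163 : act 3 n121 = n84 := d7_2 D83 D121 (iv D84) (iv D55) (iv F81)
theorem F164 : act 4 n121 = n105 := d12_3 D54 D83 D121 (iv D105) (iv D71) (iv D47) (iv D33) (iv D22) (iv D13) F21 D14 (iv F40) D33 D47 F73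
def n122 : Q := act 4 n83
theorem D122 : act 4 n83 = n122 := rfl
theorem F165 : act 0 n122 = n121 := d3_1 D122 F164 F141
theorem F166 : act 2 n122 = n105 := d8_1 D122 (iv F164) (iv D121)
theorem F167 : act 3 n106 = n122 := d12_7 F128 F93 (iv D68) D69 D101 F137 D106 (iv D122) D121 F163 (iv F156) (iv D116) (iv D79) (iv F105) (iv F126)
def n123 : Q := act 1 n84
theorem D123 : act 1 n84 = n123 := rfl
def n124 : Q := act 1 n85
theorem D124 : act 1 n85 = n124 := rfl
def n125 : Q := act 3 n85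
theorem D125 : act 3 n85 = n125 := rfl
theorem F168 : act 0 n125 = n87 := d2_1 D125 F115 (iv F112)
theorem F169 : act 2 n125 = n86 := d7_1 D125 F158 (iv D117) F108 D85
theorem F170 : act 4 n85 = n125 := d8_0 F169 (iv D86) D85
def n126 : Q := act 3 n88
theorem D126 : act 3 n88 = n126 := rfl
theorem F171 : act 0 n126 = n116 := d2_1 D126 F155 F149
theorem F172 : act 2 n126 = n101 := d7_1 D126 (iv D101) (iv F127) (iv D94) (iv F117)
theorem F173 : act 4 n126 = n106 := d9_2 D88 D126 F167 (iv D122) (iv D83) (iv D54) F62 D40 D59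
def n127 : Q := act 3 n89
theorem D127 : act 3 n89 = n127 := rfl
theorem F174 : act 0 n127 = n90 := d2_1 D127 (iv D90) D89
theorem F175 : act 1 n127 = n92 := d5_1 D127 (iv D92) (iv F118)
def n128 : Q := act 2 n90
theorem D128 : act 2 n90 = n128 := rfl
def n129 : Q := act 4 n90
theorem D129 : act 4 n90 = n129 := rfl
theorem F176 : act 1 n129 = n91 := d6_1 D129 (iv D91) (iv F121)
theorem F177 : act 3 n115 = n129 := d5_0 F176 F123 (iv F153)
def n130 : Q := act 4 n92
theorem D130 : act 4 n92 = n130 := rfl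
theorem F178 : act 0 n130 = n93 := d3_1 D130 (iv D93) (iv F124)
def n131 : Q := act 3 n93
theorem D131 : act 3 n93 = n131 := rfl
theorem F179 : act 1 n131 = n94 := d5_1 D131 (iv D94) (iv F125)
theorem F180 : act 4 n100 = n131 := d6_0 F179 F128 D100
def n132 : Q := act 1 n95
theorem D132 : act 1 n95 = n132 := rfl
theorem F181 : act 3 n132 = n97 := d5_2 (iv F130) D132 (iv D97)
def n133 : Q := act 4 n95
theorem D133 : act 4 n95 = n133 := rfl
theorem F182 : act 0 n133 = n98 := d3_1 D133 (iv D98) (iv F129)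
theorem F183 : act 2 n133 = n96 := d8_1 D133 (iv D96) D95
def n134 : Q := act 3 n96
theorem D134 : act 3 n96 = n134 := rfl
theorem F184 : act 0 n134 = n99 := d2_1 D134 (iv D99) (iv F131)
theorem F185 : act 1 n134 = n101 := d5_1 D134 (iv D101) (iv F132)
theorem F186 : act 4 n134 = n99 := d9_2 D96 D134 (iv D99) (iv D67) (iv D45) (iv D31) F52 D44 D65
def n135 : Q := act 0 n97
theorem D135 : act 0 n97 = n135 := rfl
def n136 : Q := act 2 n97
theorem D136 : act 2 n97 = n136 := rfl
def n137 : Q := act 4 n97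
theorem D137 : act 4 n97 = n137 := rfl
theorem F187 : act 1 n137 = n98 := d6_1 D137 (iv D98) D97
def n138 : Q := act 3 n98
theorem D138 : act 3 n98 = n138 := rfl
def n139 : Q := act 2 n99
theorem D139 : act 2 n99 = n139 := rfl
def n140 : Q := act 0 n100
theorem D140 : act 0 n100 = n140 := rfl
theorem F188 : act 1 n140 = n114 := d0_2 D100 D140 (iv D114) (iv D77) (iv F92)
theorem F189 : act 3 n140 = n140 := d2_2 F135 D140 (iv D140)
def n141 : Q := act 2 n100
theorem D141 : act 2 n100 = n141 := rfl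
theorem F190 : act 1 n141 = n110 := d11_2 F135 D141 (iv D110) (iv D74) (iv D49) (iv F74) (iv D47) (iv F71) (iv D45) (iv F70) F69 D46 D68 D100
theorem F191 : act 3 n109 = n141 := d11_0 (iv D141) (iv D100) F93 (iv D68) (iv F90) (iv D65) F70 F53 D33 D47 D70 F95 D74 D109
def n142 : Q := act 2 n102
theorem D142 : act 2 n102 = n142 := rfl
theorem F192 : act 0 n142 = n103 := d1_1 D142 (iv D103) D102
def n143 : Q := act 4 n102
theorem D143 : act 4 n102 = n143 := rfl
theorem F193 : act 0 n143 = n104 := d3_1 D143 (iv D104) D102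
theorem F194 : act 1 n143 = n118 := d6_1 D143 (iv D118) (iv F138)
def n144 : Q := act 1 n103
theorem D144 : act 1 n103 = n144 := rfl
def n145 : Q := act 3 n103
theorem D145 : act 3 n103 = n145 := rfl
theorem F195 : act 2 n145 = n110 := d7_1 D145 (iv D110) (iv D74) (iv F95) D103
def n146 : Q := act 4 n103
theorem D146 : act 4 n103 = n146 := rfl
theorem F196 : act 2 n146 = n104 := d8_1 D146 (iv D104) D103
def n147 : Q := act 3 n104
theorem D147 : act 3 n104 = n147 := rfl
theorem F197 : act 1 n147 = n105 := d5_1 D147 (iv D105) (iv F140)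
def n148 : Q := act 1 n106
theorem D148 : act 1 n106 = n148 := rfl
def n149 : Q := act 1 n107
theorem D149 : act 1 n107 = n149 := rfl
theorem F198 : act 0 n149 = n111 := d10_2 D107 D149 F147 F100 F76 F63 F45 F33 (iv D18) (iv F32) (iv F41) D34 D49 D73
theorem F199 : act 2 n108 = n149 := d10_0 (iv D149) F143 (iv D74) (iv D49) F57 (iv D26) F32 F23 D18 (iv F45) (iv F58) (iv F77) (iv F100) (iv F144)
theorem F200 : act 4 n149 = n107 := d8_2 D108 F199 (iv D107)
def n150 : Q := act 3 n107
theorem D150 : act 3 n107 = n150 := rfl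
theorem F201 : act 0 n150 = n110 := d2_1 D150 (iv D110) (iv F143)
def n151 : Q := act 3 n108
theorem D151 : act 3 n108 = n151 := rfl
theorem F202 : act 0 n151 = n112 := d2_1 D151 (iv D112) (iv F144)
theorem F203 : act 1 n151 = n117 := d5_1 D151 (iv F158) (iv F145)
def n152 : Q := act 0 n109
theorem D152 : act 0 n109 = n152 := rfl
theorem F204 : act 1 n152 = n111 := d0_2 D109 D152 (iv F198) (iv D149) F143
theorem F205 : act 2 n152 = n152 := d1_2 F146 D152 (iv D152)
theorem F206 : act 4 n152 = n109 := d12_0 F191 (iv D141) F180 (iv D131) (iv D93) (iv F104) F103 D115 F154 D131 (iv F180) D141 (iv F191) F146 D152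
def n153 : Q := act 4 n110
theorem D153 : act 4 n110 = n153 := rfl
def n154 : Q := act 3 n111
theorem D154 : act 3 n111 = n154 := rfl
def n155 : Q := act 2 n112
theorem D155 : act 2 n112 = n155 := rfl
def n156 : Q := act 4 n112
theorem D156 : act 4 n112 = n156 := rfl
theorem F207 : act 1 n156 = n113 := d6_1 D156 (iv D113) (iv F148)
def n157 : Q := act 4 n114
theorem D157 : act 4 n114 = n157 := rfl
theorem F208 : act 0 n157 = n115 := d3_1 D157 (iv D115) D114
theorem F209 : act 2 n157 = n130 := d8_1 D157 (iv D130) (iv F151)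
def n158 : Q := act 1 n116
theorem D158 : act 1 n116 = n158 := rfl
theorem F210 : act 3 n158 = n156 := d5_2 (iv F155) D158 F207
theorem F211 : act 4 n158 = n123 := d6_2 (iv F156) D158 (iv D123)
def n159 : Q := act 4 n117
theorem D159 : act 4 n117 = n159 := rfl
theorem F212 : act 0 n159 = n119 := d3_1 D159 (iv D119) (iv F157)
theorem F213 : act 2 n159 = n118 := d8_1 D159 (iv D118) D117
def n160 : Q := act 3 n118
theorem D160 : act 3 n118 = n160 := rfl
theorem F214 : act 0 n160 = n120 := d2_1 D160 (iv D120) (iv F159)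
def n161 : Q := act 3 n119
theorem D161 : act 3 n119 = n161 := rfl
theorem F215 : act 1 n161 = n126 := d5_1 D161 (iv D126) (iv F160)
theorem F216 : act 4 n148 = n161 := d6_0 F215 F173 D148
theorem F217 : act 2 n160 = n148 := d12_2 D118 D160 F216 (iv D161) (iv D119) (iv D81) F80 D58 (iv F114) F115 F116 F114 F110 (iv D81) D80
def n162 : Q := act 2 n120
theorem D162 : act 2 n120 = n162 := rfl
theorem F218 : act 0 n162 = n148 := d1_1 D162 (iv F217) F214
def n163 : Q := act 4 n120
theorem D163 : act 4 n120 = n163 := rfl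
theorem F219 : act 1 n163 = n122 := d6_1 D163 (iv D122) (iv F162)
theorem F220 : act 3 n163 = n148 := d9_1 D163 F216 (iv D161) (iv D119) (iv F110) (iv D58) (iv F80) D82 D120
def n164 : Q := act 1 n121
theorem D164 : act 1 n121 = n164 := rfl
theorem F221 : act 3 n164 = n123 := d5_2 (iv F163) D164 (iv D123)
theorem F222 : act 4 n164 = n147 := d6_2 (iv F164) D164 F197
def n165 : Q := act 0 n123
theorem D165 : act 0 n123 = n165 := rfl
theorem F223 : act 1 n165 = n162 := d0_2 D123 D165 F218 (iv D148) F142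
def n166 : Q := act 2 n123
theorem D166 : act 2 n123 = n166 := rfl
def n167 : Q := act 0 n124
theorem D167 : act 0 n124 = n167 := rfl
theorem F224 : act 1 n167 = n125 := d0_2 D124 D167 F168 (iv D87) (iv F112)
theorem F225 : act 2 n167 = n124 := d10_3 D85 D124 D167 (iv D124) F112 (iv D57) (iv D39) (iv F57) (iv D34) F42 F41 D26 D39 D56
theorem F226 : act 3 n124 = n167 := d5_0 F224 (iv D125) D124
theorem F227 : act 4 n124 = n167 := d6_0 F224 (iv F170) D124
def n168 : Q := act 2 n127
theorem D168 : act 2 n127 = n168 := rfl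
theorem F228 : act 0 n168 = n128 := d1_1 D168 (iv D128) (iv F174)
theorem F229 : act 3 n168 = n128 := d7_2 D127 D168 (iv D128) (iv D90) (iv F120)
def n169 : Q := act 4 n127
theorem D169 : act 4 n127 = n169 := rfl
theorem F230 : act 0 n169 = n129 := d3_1 D169 (iv D129) (iv F174)
theorem F231 : act 1 n169 = n130 := d6_1 D169 (iv D130) (iv F175)
theorem F232 : act 3 n157 = n169 := d2_0 F230 (iv F177) (iv F208)
def n170 : Q := act 1 n128
theorem D170 : act 1 n128 = n170 := rfl
theorem F233 : act 0 n170 = n136 := d10_2 D128 D170 (iv D136) (iv D97) (iv F129) (iv D95) F90 F72 D51 D77 D114 F151 (iv F175) F174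
theorem F234 : act 2 n135 = n170 := d10_0 (iv D170) (iv F228) (iv D168) F175 F124 (iv F104) (iv D77) (iv F92) (iv D68) (iv F90) F89 D66 D97 D135
def n171 : Q := act 4 n128
theorem D171 : act 4 n128 = n171 := rfl
theorem F235 : act 2 n171 = n129 := d8_1 D171 (iv D129) D128
def n172 : Q := act 3 n130
theorem D172 : act 3 n130 = n172 := rfl
theorem F236 : act 0 n172 = n131 := d2_1 D172 (iv D131) (iv F178)
theorem F237 : act 1 n172 = n157 := d5_1 D172 F232 F231
theorem F238 : act 4 n140 = n172 := d6_0 F237 (iv D157) (iv F188)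
def n173 : Q := act 2 n131
theorem D173 : act 2 n131 = n173 := rfl
theorem F239 : act 3 n173 = n171 := d7_2 D131 D173 F235 (iv F177) F154
theorem F240 : act 4 n173 = n141 := d8_2 F180 D173 (iv D141)
theorem F241 : act 1 n153 = n173 := d6_3 F240 F190 D153
def n174 : Q := act 0 n132
theorem D174 : act 0 n132 = n174 := rfl
theorem F242 : act 1 n174 = n135 := d0_2 D132 D174 (iv D135) (iv D97) (iv F129)
theorem F243 : act 3 n174 = n135 := d2_2 (iv F181) D174 (iv D135)
def n175 : Q := act 2 n132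
theorem D175 : act 2 n132 = n175 := rfl
theorem F244 : act 1 n175 = n145 := d4_1 D175 F195 (iv F190) (iv D141) (iv D100) (iv D68) (iv F90) D95 D132
theorem F245 : act 3 n144 = n175 := d11_0 (iv D175) (iv D132) F130 (iv D66) F71 (iv D33) F40 F28 D23 D34 D49 (iv F95) D103 D144
def n176 : Q := act 4 n132
theorem D176 : act 4 n132 = n176 := rfl
theorem F246 : act 1 n176 = n133 := d6_1 D176 (iv D133) D132
theorem F247 : act 3 n176 = n166 := d11_3 (iv D134) (iv F183) (iv F246) (iv D166) (iv D123) (iv F163) (iv D121) (iv F162) (iv D120) (iv F161) F160 D126 F172 (iv F185)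
def n177 : Q := act 3 n133
theorem D177 : act 3 n133 = n177 := rfl
theorem F248 : act 0 n177 = n138 := d2_1 D177 (iv D138) (iv F182)
theorem F249 : act 1 n177 = n166 := d5_1 D177 (iv F247) F246
def n178 : Q := act 2 n134
theorem D178 : act 2 n134 = n178 := rfl
theorem F250 : act 0 n178 = n139 := d1_1 D178 (iv D139) (iv F184)
theorem F251 : act 4 n178 = n139 := d8_2 (iv F186) D178 (iv D139)
def n179 : Q := act 4 n135
theorem D179 : act 4 n135 = n179 := rfl
theorem F252 : act 0 n179 = n137 := d3_1 D179 (iv D137) D135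
def n180 : Q := act 1 n136
theorem D180 : act 1 n136 = n180 := rfl
theorem F253 : act 2 n180 = n144 := d4_2 D136 D180 (iv D144) (iv D103) (iv D70) (iv D47) (iv F71) D66 D97
theorem F254 : act 3 n180 = n136 := d11_3 F181 D136 D180 (iv D136) (iv D97) (iv F130) (iv D95) F90 (iv D46) F55 (iv F69) D65 D95 D132
def n181 : Q := act 4 n136
theorem D181 : act 4 n136 = n181 := rfl
theorem F255 : act 2 n181 = n137 := d8_1 D181 (iv D137) D136
def n182 : Q := act 3 n137
theorem D182 : act 3 n137 = n182 := rfl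
theorem F256 : act 1 n182 = n138 := d5_1 D182 (iv D138) (iv F187)
def n183 : Q := act 2 n138
theorem D183 : act 2 n138 = n183 := rfl
theorem F257 : act 3 n183 = n139 := d7_2 D138 D183 (iv D139) (iv D99) (iv F133)
theorem F258 : act 4 n183 = n138 := d12_3 D98 D138 D183 (iv D138) (iv D98) (iv D66) (iv D45) (iv D31) (iv F51) (iv F52) D31 (iv F70) D65 D95 F129
def n184 : Q := act 1 n139
theorem D184 : act 1 n139 = n184 := rfl
def n185 : Q := act 2 n140
theorem D185 : act 2 n140 = n185 := rfl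
theorem F259 : act 0 n185 = n141 := d1_1 D185 (iv D141) D140
theorem F260 : act 1 n185 = n154 := d11_2 F189 D185 (iv D154) F147 F100 D76 F102 (iv F121) (iv D90) (iv F120) F118 D92 (iv F151) (iv F188)
theorem F261 : act 3 n185 = n152 := d12_7 (iv D157) F152 F151 D130 D172 (iv F238) D185 F206 F146 F191 (iv F240) (iv D173) (iv D131) (iv F154) (iv F208)
def n186 : Q := act 1 n142
theorem D186 : act 1 n142 = n186 := rfl
def n187 : Q := act 3 n142
theorem D187 : act 3 n142 = n187 := rfl
theorem F262 : act 0 n187 = n145 := d2_1 D187 (iv D145) (iv F192)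
theorem F263 : act 2 n187 = n150 := d7_1 D187 (iv D150) (iv D107) (iv F139) D142
def n188 : Q := act 4 n142
theorem D188 : act 4 n142 = n188 := rfl
theorem F264 : act 0 n188 = n146 := d3_1 D188 (iv D146) (iv F192)
theorem F265 : act 2 n188 = n143 := d8_1 D188 (iv D143) D142
def n189 : Q := act 3 n143
theorem D189 : act 3 n143 = n189 := rfl
theorem F266 : act 0 n189 = n147 := d2_1 D189 (iv D147) (iv F193)
theorem F267 : act 1 n189 = n160 := d5_1 D189 (iv D160) (iv F194)
def n190 : Q := act 0 n144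
theorem D190 : act 0 n144 = n190 := rfl
def n191 : Q := act 4 n144
theorem D191 : act 4 n144 = n191 := rfl
theorem F268 : act 1 n191 = n146 := d6_1 D191 (iv D146) D144
def n192 : Q := act 4 n145
theorem D192 : act 4 n145 = n192 := rfl
theorem F269 : act 2 n192 = n153 := d8_1 D192 (iv D153) (iv F195)
def n193 : Q := act 3 n146
theorem D193 : act 3 n146 = n193 := rfl
def n194 : Q := act 2 n147
theorem D194 : act 2 n147 = n194 := rfl
def n195 : Q := act 3 n149
theorem D195 : act 3 n149 = n195 := rfl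
theorem F270 : act 0 n195 = n154 := d2_1 D195 (iv D154) (iv F198)
theorem F271 : act 1 n195 = n150 := d5_1 D195 (iv D150) D149
theorem F272 : act 2 n195 = n186 := d11_1 D195 (iv D186) D187 F263 (iv F271) (iv D195) (iv F199) F145 F158 (iv D117) (iv F138) F139 D107 D149
def n196 : Q := act 4 n150
theorem D196 : act 4 n150 = n196 := rfl
theorem F273 : act 0 n196 = n153 := d3_1 D196 (iv D153) (iv F201)
def n197 : Q := act 2 n151
theorem D197 : act 2 n151 = n197 := rfl
theorem F274 : act 0 n197 = n155 := d1_1 D197 (iv D155) (iv F202)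
theorem F275 : act 1 n197 = n187 := d4_1 D197 F263 (iv F271) F272 (iv D186) (iv D142) F138 D117 (iv F203)
theorem F276 : act 3 n197 = n186 := d7_2 D151 D197 (iv F272) (iv D195) (iv F199)
def n198 : Q := act 4 n151
theorem D198 : act 4 n151 = n198 := rfl
theorem F277 : act 0 n198 = n156 := d3_1 D198 (iv D156) (iv F202)
theorem F278 : act 1 n198 = n159 := d6_1 D198 (iv D159) (iv F203)
def n199 : Q := act 3 n153
theorem D199 : act 3 n153 = n199 := rfl
theorem F279 : act 1 n199 = n171 := d5_1 D199 (iv F239) (iv F241)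
theorem F280 : act 4 n170 = n199 := d6_0 F279 (iv D171) D170
theorem F281 : act 0 n199 = n181 := d10_2 (iv F235) (iv F279) F255 F187 (iv F182) F183 F132 F94 (iv F105) (iv F153) (iv F208) F209 (iv F231) F230
theorem F282 : act 2 n179 = n199 := d1_0 F281 F255 (iv F252)
theorem F283 : act 3 n181 = n196 := d2_2 D199 F281 F273
def n200 : Q := act 2 n154
theorem D200 : act 2 n154 = n200 := rfl
theorem F284 : act 0 n200 = n186 := d1_1 D200 (iv F272) F270
theorem F285 : act 3 n200 = n155 := d7_2 D154 D200 (iv D155) (iv D112) (iv F147)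
theorem F286 : act 1 n200 = n190 := d10_1 D200 (iv D190) (iv F253) (iv D180) (iv F233) (iv F234) (iv F242) (iv D174) D175 F244 (iv F262) F263 (iv F271) F270
def n201 : Q := act 4 n154
theorem D201 : act 4 n154 = n201 := rfl
def n202 : Q := act 1 n155
theorem D202 : act 1 n155 = n202 := rfl
theorem F287 : act 0 n202 = n175 := d0_1 D202 F244 (iv F262) (iv F275) F274
theorem F288 : act 2 n202 = n174 := d4_2 D155 D202 F242 F234 (iv D170) (iv D128) F121 (iv F102) (iv F148)
theorem F289 : act 3 n202 = n190 := d5_2 F285 D202 (iv F286)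
def n203 : Q := act 4 n155
theorem D203 : act 4 n155 = n203 := rfl
theorem F290 : act 2 n203 = n156 := d8_1 D203 (iv D156) D155
def n204 : Q := act 0 n158
theorem D204 : act 0 n158 = n204 := rfl
theorem F291 : act 3 n204 = n198 := d2_2 (iv F210) D204 F277
theorem F292 : act 4 n204 = n165 := d3_2 (iv F211) D204 (iv D165)
def n205 : Q := act 2 n158
theorem D205 : act 2 n158 = n205 := rfl
theorem F293 : act 4 n205 = n166 := d8_2 (iv F211) D205 (iv D166)
def n206 : Q := act 3 n159
theorem D206 : act 3 n159 = n206 := rfl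
theorem F294 : act 0 n206 = n161 := d2_1 D206 (iv D161) (iv F212)
theorem F295 : act 1 n206 = n204 := d5_1 D206 F291 F278
theorem F296 : act 2 n206 = n163 := d7_1 D206 F220 (iv F217) (iv D160) (iv F213)
theorem F297 : act 4 n206 = n162 := d12_5 (iv D86) (iv F108) D117 D159 D206 (iv D162) (iv D120) (iv D82) D81 (iv F110) (iv D58) D57 (iv F115) F114 (iv F113)
def n207 : Q := act 4 n160
theorem D207 : act 4 n160 = n207 := rfl
theorem F298 : act 0 n207 = n163 := d3_1 D207 (iv D163) (iv F214)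
theorem F299 : act 2 n207 = n161 := d8_1 D207 (iv F216) (iv F217)
theorem F300 : act 3 n207 = n162 := d9_1 D207 (iv F297) (iv D206) (iv D159) (iv F158) (iv D86) (iv F108) D118 D160
def n208 : Q := act 0 n164
theorem D208 : act 0 n164 = n208 := rfl
theorem F301 : act 1 n208 = n207 := d0_2 D164 D208 F298 F219 F165
theorem F302 : act 3 n208 = n165 := d2_2 (iv F221) D208 (iv D165)
theorem F303 : act 4 n208 = n189 := d3_2 (iv F222) D208 F266
def n209 : Q := act 2 n164
theorem D209 : act 2 n164 = n209 := rfl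
theorem F304 : act 4 n209 = n194 := d8_2 (iv F222) D209 (iv D194)
def n210 : Q := act 2 n165
theorem D210 : act 2 n165 = n210 := rfl
theorem F305 : act 0 n210 = n166 := d1_1 D210 (iv D166) D165
def n211 : Q := act 1 n168
theorem D211 : act 1 n168 = n211 := rfl
theorem F306 : act 0 n211 = n180 := d0_1 D211 (iv D180) (iv F233) (iv D170) (iv F228)
theorem F307 : act 2 n211 = n190 := d4_2 D168 D211 (iv F286) (iv D200) (iv F260) (iv D185) F188 F151 (iv F175)
theorem F308 : act 3 n211 = n170 := d5_2 (iv F229) D211 (iv D170)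
def n212 : Q := act 4 n168
theorem D212 : act 4 n168 = n212 := rfl
theorem F309 : act 0 n212 = n171 := d3_1 D212 (iv D171) (iv F228)
theorem F310 : act 2 n212 = n169 := d8_1 D212 (iv D169) D168
def n213 : Q := act 2 n172
theorem D213 : act 2 n172 = n213 := rfl
theorem F311 : act 0 n213 = n173 := d1_1 D213 (iv D173) (iv F236)
theorem F312 : act 3 n213 = n212 := d7_2 D172 D213 F310 (iv F232) F209
theorem F313 : act 4 n213 = n185 := d8_2 F238 D213 (iv D185)
theorem F314 : act 1 n201 = n213 := d6_3 F313 F260 D201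
def n214 : Q := act 4 n174
theorem D214 : act 4 n174 = n214 := rfl
theorem F315 : act 0 n214 = n176 := d3_1 D214 (iv D176) D174
theorem F316 : act 1 n214 = n179 := d6_1 D214 (iv D179) (iv F242)
theorem F317 : act 3 n214 = n210 := d11_3 D199 (iv F282) (iv F316) (iv D210) F223 (iv F300) F299 F215 (iv D126) F117 (iv F125) D131 D173 (iv F241)
def n215 : Q := act 4 n175
theorem D215 : act 4 n175 = n215 := rfl
theorem F318 : act 1 n215 = n192 := d6_1 D215 (iv D192) (iv F244)
theorem F319 : act 2 n215 = n176 := d8_1 D215 (iv D176) D175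
theorem F320 : act 3 n215 = n209 := d12_1 D215 (iv D209) F222 (iv D147) (iv D104) D103 D145 D192 F269 D199 (iv F280) (iv F234) (iv F243) (iv F288) F287
def n216 : Q := act 2 n177
theorem D216 : act 2 n177 = n216 := rfl
theorem F321 : act 0 n216 = n183 := d1_1 D216 (iv D183) (iv F248)
theorem F322 : act 1 n216 = n205 := d4_1 D216 (iv D205) (iv D158) (iv D116) F106 D84 D123 D166 (iv F249)
theorem F323 : act 3 n216 = n178 := d7_2 D177 D216 (iv D178) (iv D134) (iv F183)
theorem F324 : act 4 n216 = n177 := d12_3 D133 D177 D216 (iv D177) (iv D133) (iv D95) (iv D65) (iv D44) F51 F52 D44 F70 D45 D66 (iv F129)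
def n217 : Q := act 1 n178
theorem D217 : act 1 n178 = n217 := rfl
theorem F325 : act 3 n217 = n205 := d5_2 F323 D217 (iv F322)
theorem F326 : act 4 n217 = n184 := d6_2 (iv F251) D217 (iv D184)
def n218 : Q := act 3 n179
theorem D218 : act 3 n179 = n218 := rfl
theorem F327 : act 0 n218 = n182 := d2_1 D218 (iv D182) (iv F252)
theorem F328 : act 1 n218 = n210 := d5_1 D218 (iv F317) F316
def n219 : Q := act 4 n180
theorem D219 : act 4 n180 = n219 := rfl
theorem F329 : act 1 n219 = n181 := d6_1 D219 (iv D181) D180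
theorem F330 : act 2 n219 = n191 := d8_1 D219 (iv D191) (iv F253)
def n220 : Q := act 2 n182
theorem D220 : act 2 n182 = n220 := rfl
def n221 : Q := act 4 n182
theorem D221 : act 4 n182 = n221 := rfl
theorem F331 : act 1 n221 = n183 := d6_1 D221 F258 (iv F256)
theorem F332 : act 3 n221 = n184 := d9_1 D221 (iv F326) F325 F293 (iv F247) (iv D176) F181 D137 D182
def n222 : Q := act 0 n184
theorem D222 : act 0 n184 = n222 := rfl
def n223 : Q := act 2 n184
theorem D223 : act 2 n184 = n223 := rfl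
def n224 : Q := act 4 n186
theorem D224 : act 4 n186 = n224 := rfl
theorem F333 : act 1 n224 = n188 := d6_1 D224 (iv D188) D186
def n225 : Q := act 4 n187
theorem D225 : act 4 n187 = n225 := rfl
theorem F334 : act 0 n225 = n192 := d3_1 D225 (iv D192) (iv F262)
theorem F335 : act 2 n225 = n196 := d8_1 D225 (iv D196) (iv F263)
theorem F336 : act 3 n220 = n225 := d7_0 F335 (iv F283) F255 D182 D220
def n226 : Q := act 3 n188
theorem D226 : act 3 n188 = n226 := rfl
theorem F337 : act 0 n226 = n193 := d2_1 D226 (iv D193) (iv F264)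
def n227 : Q := act 2 n189
theorem D227 : act 2 n189 = n227 := rfl
theorem F338 : act 0 n227 = n194 := d1_1 D227 (iv D194) (iv F266)
theorem F339 : act 1 n227 = n223 := d4_1 D227 (iv D223) (iv D184) (iv D139) F134 D106 D148 (iv F217) (iv F267)
def n228 : Q := act 4 n190
theorem D228 : act 4 n190 = n228 := rfl
theorem F340 : act 0 n228 = n191 := d3_1 D228 (iv D191) D190
def n229 : Q := act 3 n191
theorem D229 : act 3 n191 = n229 := rfl
theorem F341 : act 1 n229 = n193 := d5_1 D229 (iv D193) (iv F268)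
def n230 : Q := act 3 n192
theorem D230 : act 3 n192 = n230 := rfl
theorem F342 : act 0 n230 = n220 := d2_1 D230 F336 F334
theorem F343 : act 1 n230 = n209 := d5_1 D230 (iv F320) F318
theorem F344 : act 2 n230 = n218 := d7_1 D230 (iv D218) F282 (iv D199) (iv F269)
def n231 : Q := act 2 n193
theorem D231 : act 2 n193 = n231 := rfl
theorem F345 : act 3 n231 = n194 := d7_2 D193 D231 (iv D194) (iv D147) (iv F196)
def n232 : Q := act 4 n193
theorem D232 : act 4 n193 = n232 := rfl
def n233 : Q := act 1 n194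
theorem D233 : act 1 n194 = n233 := rfl
theorem F346 : act 4 n233 = n230 := d6_2 F304 D233 F343
def n234 : Q := act 4 n195
theorem D234 : act 4 n195 = n234 := rfl
theorem F347 : act 0 n234 = n201 := d3_1 D234 (iv D201) (iv F270)
theorem F348 : act 1 n234 = n196 := d6_1 D234 (iv D196) (iv F271)
theorem F349 : act 2 n234 = n224 := d8_1 D234 (iv D224) (iv F272)
theorem F350 : act 3 n234 = n219 := d9_1 D234 (iv D219) F254 D181 F283 (iv D196) (iv D150) (iv F200) D195
def n235 : Q := act 4 n197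
theorem D235 : act 4 n197 = n235 := rfl
theorem F351 : act 0 n235 = n203 := d3_1 D235 (iv D203) (iv F274)
theorem F352 : act 1 n235 = n225 := d6_1 D235 (iv D225) (iv F275)
theorem F353 : act 2 n235 = n198 := d8_1 D235 (iv D198) D197
def n236 : Q := act 4 n200
theorem D236 : act 4 n200 = n236 := rfl
theorem F354 : act 0 n236 = n224 := d3_1 D236 (iv D224) (iv F284)
theorem F355 : act 1 n236 = n228 := d6_1 D236 (iv D228) (iv F286)
theorem F356 : act 2 n236 = n201 := d8_1 D236 (iv D201) D200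
def n237 : Q := act 3 n201
theorem D237 : act 3 n201 = n237 := rfl
theorem F357 : act 0 n237 = n219 := d2_1 D237 (iv F350) F347
theorem F358 : act 1 n237 = n212 := d5_1 D237 (iv F312) (iv F314)
theorem F359 : act 4 n237 = n211 := d9_2 D201 D237 F308 F280 (iv D199) (iv D153) (iv D110) D111 D154
theorem F360 : act 2 n237 = n228 := d12_14 (iv D191) F245 (iv D175) D176 F247 (iv F293) (iv D205) F210 (iv D156) D155 (iv F285) D236 F356 D237 F340
def n238 : Q := act 4 n202
theorem D238 : act 4 n202 = n238 := rfl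
theorem F361 : act 0 n238 = n215 := d3_1 D238 (iv D215) (iv F287)
theorem F362 : act 1 n238 = n203 := d6_1 D238 (iv D203) D202
theorem F363 : act 2 n238 = n214 := d8_1 D238 (iv D214) (iv F288)
def n239 : Q := act 3 n203
theorem D239 : act 3 n203 = n239 := rfl
theorem F364 : act 2 n239 = n217 := d7_1 D239 F325 (iv D205) F210 (iv F290)
theorem F365 : act 4 n239 = n223 := d12_5 D75 D112 D155 D203 D239 (iv D223) (iv F332) (iv D221) D220 F336 (iv D225) F263 (iv D150) (iv D107) (iv D73)
def n240 : Q := act 2 n204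
theorem D240 : act 2 n204 = n240 := rfl
theorem F366 : act 0 n240 = n205 := d1_1 D240 (iv D205) D204
theorem F367 : act 4 n240 = n210 := d8_2 (iv F292) D240 (iv D210)
def n241 : Q := act 2 n208
theorem D241 : act 2 n208 = n241 := rfl
theorem F368 : act 0 n241 = n209 := d1_1 D241 (iv D209) D208
theorem F369 : act 1 n241 = n239 := d4_1 D241 F364 (iv D217) (iv D178) F185 (iv F172) (iv F215) (iv F299) (iv F301)
theorem F370 : act 3 n241 = n238 := d7_2 (iv F302) D241 F363 F317 (iv D210)
theorem F371 : act 4 n241 = n227 := d8_2 (iv F303) D241 (iv D227)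
def n242 : Q := act 0 n217
theorem D242 : act 0 n217 = n242 := rfl
theorem F372 : act 1 n242 = n222 := d0_2 D217 D242 (iv D222) (iv D184) (iv F250)
theorem F373 : act 3 n242 = n240 := d2_2 (iv F325) D242 F366
theorem F374 : act 4 n242 = n222 := d3_2 (iv F326) D242 (iv D222)
def n243 : Q := act 4 n218
theorem D243 : act 4 n218 = n243 := rfl
theorem F375 : act 0 n243 = n221 := d3_1 D243 (iv D221) (iv F327)
theorem F376 : act 1 n243 = n240 := d6_1 D243 F367 (iv F328)
theorem F377 : act 2 n243 = n233 := d8_1 D243 F346 F344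
theorem F378 : act 3 n243 = n222 := d9_1 D243 (iv F374) F373 F367 (iv F317) (iv D214) F243 D179 D218
def n244 : Q := act 1 n220
theorem D244 : act 1 n220 = n244 := rfl
theorem F379 : act 0 n244 = n239 := d0_1 D244 (iv F369) F368 (iv F343) F342
theorem F380 : act 3 n244 = n235 := d5_2 (iv F336) D244 F352
theorem F381 : act 2 n242 = n244 := d10_0 (iv D244) (iv F342) F344 F328 F305 (iv D166) (iv D123) (iv F142) (iv D106) (iv F134) (iv F184) D178 D217 D242
def n245 : Q := act 4 n220
theorem D245 : act 4 n220 = n245 := rfl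
theorem F382 : act 0 n245 = n233 := d3_1 D245 F346 F342
theorem F383 : act 2 n245 = n221 := d8_1 D245 (iv D221) D220
def n246 : Q := act 2 n222
theorem D246 : act 2 n222 = n246 := rfl
theorem F384 : act 0 n246 = n223 := d1_1 D246 (iv D223) D222
theorem F385 : act 1 n246 = n245 := d4_1 D246 F383 F331 (iv D183) (iv F256) D220 D244 (iv F381) F372
theorem F386 : act 4 n246 = n244 := d8_2 F374 D246 (iv F381)
def n247 : Q := act 3 n223
theorem D247 : act 3 n223 = n247 := rfl
def n248 : Q := act 3 n224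
theorem D248 : act 3 n224 = n248 := rfl
theorem F387 : act 1 n248 = n226 := d5_1 D248 (iv D226) (iv F333)
theorem F388 : act 2 n248 = n229 := d7_1 D248 (iv D229) (iv F330) (iv F350) F349
def n249 : Q := act 2 n226
theorem D249 : act 2 n226 = n249 := rfl
theorem F389 : act 0 n249 = n231 := d1_1 D249 (iv D231) (iv F337)
theorem F390 : act 3 n249 = n227 := d7_2 D226 D249 (iv D227) (iv D189) (iv F265)
theorem F391 : act 1 n249 = n247 := d11_2 D226 D249 (iv D247) (iv D223) (iv D184) (iv F257) (iv D183) (iv F256) (iv D182) (iv F255) (iv F329) (iv F350) F349 F333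
def n250 : Q := act 4 n226
theorem D250 : act 4 n226 = n250 := rfl
theorem F392 : act 0 n250 = n232 := d3_1 D250 (iv D232) (iv F337)
def n251 : Q := act 3 n228
theorem D251 : act 3 n228 = n251 := rfl
theorem F393 : act 0 n251 = n229 := d2_1 D251 (iv D229) (iv F340)
def n252 : Q := act 4 n229
theorem D252 : act 4 n229 = n252 := rfl
theorem F394 : act 1 n252 = n232 := d6_1 D252 (iv D232) (iv F341)
def n253 : Q := act 1 n231
theorem D253 : act 1 n231 = n253 := rfl
theorem F395 : act 3 n253 = n233 := d5_2 (iv F345) D253 (iv D233)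
def n254 : Q := act 4 n231
theorem D254 : act 4 n231 = n254 := rfl
theorem F396 : act 2 n254 = n232 := d8_1 D254 (iv D232) D231
theorem F397 : act 3 n254 = n252 := d9_1 D254 (iv D252) (iv D229) (iv D191) F245 D215 F320 F304 (iv F345)
def n255 : Q := act 3 n232
theorem D255 : act 3 n232 = n255 := rfl
theorem F398 : act 1 n255 = n254 := d5_1 D255 F397 F394
theorem F399 : act 4 n255 = n253 := d9_2 D232 D255 F395 F346 (iv D230) (iv D192) (iv D145) D146 D193
def n256 : Q := act 3 n236
theorem D256 : act 3 n236 = n256 := rfl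
theorem F400 : act 0 n256 = n248 := d2_1 D256 (iv D248) (iv F354)
theorem F401 : act 1 n256 = n251 := d5_1 D256 (iv D251) (iv F355)
theorem F402 : act 2 n256 = n251 := d7_1 D256 (iv D251) (iv F360) (iv D237) (iv F356)
def n257 : Q := act 3 n245
theorem D257 : act 3 n245 = n257 := rfl
theorem F403 : act 0 n257 = n253 := d2_1 D257 F395 (iv F382)
theorem F404 : act 2 n257 = n247 := d7_1 D257 (iv D247) (iv D223) (iv F332) (iv F383)
def n258 : Q := act 3 n246
theorem D258 : act 3 n246 = n258 := rfl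
theorem F405 : act 0 n258 = n247 := d2_1 D258 (iv D247) (iv F384)
theorem F406 : act 1 n258 = n257 := d5_1 D258 (iv D257) (iv F385)
theorem F407 : act 2 n258 = n253 := d7_1 D258 F395 (iv F377) F378 D246
def n259 : Q := act 4 n247
theorem D259 : act 4 n247 = n259 := rfl
def n260 : Q := act 4 n248
theorem D260 : act 4 n248 = n260 := rfl
theorem F408 : act 1 n260 = n250 := d6_1 D260 (iv D250) (iv F387)
theorem F409 : act 2 n260 = n252 := d8_1 D260 (iv D252) (iv F388)
def n261 : Q := act 4 n249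
theorem D261 : act 4 n249 = n261 := rfl
theorem F410 : act 0 n261 = n254 := d3_1 D261 (iv D254) (iv F389)
theorem F411 : act 1 n261 = n259 := d6_1 D261 (iv D259) (iv F391)
theorem F412 : act 2 n261 = n250 := d8_1 D261 (iv D250) D249
def n262 : Q := act 3 n250
theorem D262 : act 3 n250 = n262 := rfl
theorem F413 : act 0 n262 = n255 := d2_1 D262 (iv D255) (iv F392)
theorem F414 : act 4 n262 = n257 := d9_2 D250 D262 (iv D257) (iv D245) F336 (iv D225) (iv D187) D188 D226
theorem F415 : act 2 n262 = n259 := d12_2 D250 D262 (iv D259) (iv D247) (iv F365) F364 F325 F293 (iv D166) (iv F221) F222 D194 (iv F345) (iv D231) (iv F337)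
def n263 : Q := act 4 n251
theorem D263 : act 4 n251 = n263 := rfl
theorem F416 : act 0 n263 = n252 := d3_1 D263 (iv D252) (iv F393)
theorem F417 : act 3 n263 = n261 := d9_1 D263 (iv D261) F390 (iv F371) F370 (iv D238) F289 D228 D251
def n264 : Q := act 2 n255
theorem D264 : act 2 n255 = n264 := rfl
theorem F418 : act 0 n264 = n259 := d1_1 D264 (iv F415) F413
theorem F419 : act 1 n264 = n262 := d4_1 D264 F415 (iv F411) F412 (iv F408) F409 F394 (iv F396) (iv F398)
theorem F420 : act 3 n264 = n260 := d7_2 D255 D264 F409 (iv F397) F396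
theorem F421 : act 4 n264 = n258 := d8_2 (iv F399) D264 F407
def n265 : Q := act 4 n256
theorem D265 : act 4 n256 = n265 := rfl
theorem F422 : act 0 n265 = n260 := d3_1 D265 (iv D260) (iv F400)
theorem F423 : act 1 n265 = n263 := d6_1 D265 (iv D263) (iv F401)
theorem F424 : act 2 n265 = n263 := d8_1 D265 (iv D263) (iv F402)
theorem F425 : act 3 n265 = n259 := d9_1 D265 (iv D259) (iv D247) (iv F365) (iv D239) (iv D203) (iv F285) D236 D256

end Cfsg.Agent.Helper17.J1PTC
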