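import Cfsg.Agent.Helper17.J1PTC.Final

set_option autoImplicit false
set_option linter.all false
set_option maxRecDepth 100000

noncomputable section

namespace Cfsg.Agent.Helper17.J1PTC

theorem N1 : nd 1 = n1 := ndS (p := 0) (l := 4) rfl N0 D1
theorem N2 : nd 2 = n2 := ndS (p := 1) (l := 3) rfl N1 D2
theorem N3 : nd 3 = n3 := ndS (p := 2) (l := 2) rfl N2 D3
theorem N4 : nd 4 = n4 := ndS (p := 2) (l := 4) rfl N2 D4
theorem N5 : nd 5 = n5 := ndS (p := 3) (l := 1) rfl N3 D5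
theorem N6 : nd 6 = n6 := ndS (p := 3) (l := 4) rfl N3 D6
theorem N7 : nd 7 = n7 := ndS (p := 4) (l := 3) rfl N4 D7
theorem N8 : nd 8 = n8 := ndS (p := 5) (l := 0) rfl N5 D8
theorem N9 : nd 9 = n9 := ndS (p := 5) (l := 2) rfl N5 D9
theorem N10 : nd 10 = n10 := ndS (p := 5) (l := 4) rfl N5 D10
theorem N11 : nd 11 = n11 := ndS (p := 6) (l := 3) rfl N6 D11
theorem N12 : nd 12 = n12 := ndS (p := 7) (l := 2) rfl N7 D12
theorem N13 : nd 13 = n13 := ndS (p := 8) (l := 2) rfl N8 D13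
theorem N14 : nd 14 = n14 := ndS (p := 8) (l := 4) rfl N8 D14
theorem N15 : nd 15 = n15 := ndS (p := 9) (l := 1) rfl N9 D15
theorem N16 : nd 16 = n16 := ndS (p := 9) (l := 4) rfl N9 D16
theorem N17 : nd 17 = n17 := ndS (p := 10) (l := 3) rfl N10 D17
theorem N18 : nd 18 = n18 := ndS (p := 11) (l := 2) rfl N11 D18
theorem N19 : nd 19 = n19 := ndS (p := 12) (l := 1) rfl N12 D19
theorem N20 : nd 20 = n20 := ndS (p := 13) (l := 1) rfl N13 D20
theorem N21 : nd 21 = n21 := ndS (p := 13) (l := 3) rfl N13 D21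
theorem N22 : nd 22 = n22 := ndS (p := 13) (l := 4) rfl N13 D22
theorem N23 : nd 23 = n23 := ndS (p := 14) (l := 3) rfl N14 D23
theorem N24 : nd 24 = n24 := ndS (p := 15) (l := 4) rfl N15 D24
theorem N25 : nd 25 = n25 := ndS (p := 16) (l := 3) rfl N16 D25
theorem N26 : nd 26 = n26 := ndS (p := 17) (l := 2) rfl N17 D26
theorem N27 : nd 27 = n27 := ndS (p := 17) (l := 4) rfl N17 D27
theorem N28 : nd 28 = n28 := ndS (p := 19) (l := 0) rfl N19 D28
theorem N29 : nd 29 = n29 := ndS (p := 19) (l := 2) rfl N19 D29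
theorem N30 : nd 30 = n30 := ndS (p := 20) (l := 0) rfl N20 D30
theorem N31 : nd 31 = n31 := ndS (p := 20) (l := 4) rfl N20 D31
theorem N32 : nd 32 = n32 := ndS (p := 21) (l := 4) rfl N21 D32
theorem N33 : nd 33 = n33 := ndS (p := 22) (l := 3) rfl N22 D33
theorem N34 : nd 34 = n34 := ndS (p := 23) (l := 2) rfl N23 D34
theorem N35 : nd 35 = n35 := ndS (p := 23) (l := 4) rfl N23 D35
theorem N36 : nd 36 = n36 := ndS (p := 24) (l := 3) rfl N24 D36
theorem N37 : nd 37 = n37 := ndS (p := 25) (l := 2) rfl N25 D37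
theorem N38 : nd 38 = n38 := ndS (p := 25) (l := 4) rfl N25 D38
theorem N39 : nd 39 = n39 := ndS (p := 26) (l := 1) rfl N26 D39
theorem N40 : nd 40 = n40 := ndS (p := 26) (l := 4) rfl N26 D40
theorem N41 : nd 41 = n41 := ndS (p := 28) (l := 2) rfl N28 D41
theorem N42 : nd 42 = n42 := ndS (p := 29) (l := 1) rfl N29 D42
theorem N43 : nd 43 = n43 := ndS (p := 29) (l := 3) rfl N29 D43
theorem N44 : nd 44 = n44 := ndS (p := 30) (l := 4) rfl N30 D44
theorem N45 : nd 45 = n45 := ndS (p := 31) (l := 3) rfl N31 D45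
theorem N46 : nd 46 = n46 := ndS (p := 32) (l := 3) rfl N32 D46
theorem N47 : nd 47 = n47 := ndS (p := 33) (l := 2) rfl N33 D47
theorem N48 : nd 48 = n48 := ndS (p := 33) (l := 4) rfl N33 D48
theorem N49 : nd 49 = n49 := ndS (p := 34) (l := 1) rfl N34 D49
theorem N50 : nd 50 = n50 := ndS (p := 34) (l := 4) rfl N34 D50
theorem N51 : nd 51 = n51 := ndS (p := 36) (l := 2) rfl N36 D51
theorem N52 : nd 52 = n52 := ndS (p := 36) (l := 4) rfl N36 D52
theorem N53 : nd 53 = n53 := ndS (p := 37) (l := 1) rfl N37 D53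
theorem N54 : nd 54 = n54 := ndS (p := 37) (l := 4) rfl N37 D54
theorem N55 : nd 55 = n55 := ndS (p := 38) (l := 3) rfl N38 D55
theorem N56 : nd 56 = n56 := ndS (p := 39) (l := 0) rfl N39 D56
theorem N57 : nd 57 = n57 := ndS (p := 39) (l := 2) rfl N39 D57
theorem N58 : nd 58 = n58 := ndS (p := 39) (l := 4) rfl N39 D58
theorem N59 : nd 59 = n59 := ndS (p := 40) (l := 3) rfl N40 D59
theorem N60 : nd 60 = n60 := ndS (p := 41) (l := 1) rfl N41 D60
theorem N61 : nd 61 = n61 := ndS (p := 41) (l := 3) rfl N41 D61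
theorem N62 : nd 62 = n62 := ndS (p := 42) (l := 0) rfl N42 D62
theorem N63 : nd 63 = n63 := ndS (p := 42) (l := 3) rfl N42 D63
theorem N64 : nd 64 = n64 := ndS (p := 43) (l := 4) rfl N43 D64
theorem N65 : nd 65 = n65 := ndS (p := 44) (l := 3) rfl N44 D65
theorem N66 : nd 66 = n66 := ndS (p := 45) (l := 2) rfl N45 D66
theorem N67 : nd 67 = n67 := ndS (p := 45) (l := 4) rfl N45 D67
theorem N68 : nd 68 = n68 := ndS (p := 46) (l := 2) rfl N46 D68
theorem N69 : nd 69 = n69 := ndS (p := 46) (l := 4) rfl N46 D69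
theorem N70 : nd 70 = n70 := ndS (p := 47) (l := 1) rfl N47 D70
theorem N71 : nd 71 = n71 := ndS (p := 47) (l := 4) rfl N47 D71
theorem N72 : nd 72 = n72 := ndS (p := 48) (l := 3) rfl N48 D72
theorem N73 : nd 73 = n73 := ndS (p := 49) (l := 0) rfl N49 D73
theorem N74 : nd 74 = n74 := ndS (p := 49) (l := 2) rfl N49 D74
theorem N75 : nd 75 = n75 := ndS (p := 49) (l := 4) rfl N49 D75
theorem N76 : nd 76 = n76 := ndS (p := 50) (l := 3) rfl N50 D76
theorem N77 : nd 77 = n77 := ndS (p := 51) (l := 1) rfl N51 D77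
theorem N78 : nd 78 = n78 := ndS (p := 51) (l := 4) rfl N51 D78
theorem N79 : nd 79 = n79 := ndS (p := 52) (l := 3) rfl N52 D79
theorem N80 : nd 80 = n80 := ndS (p := 53) (l := 0) rfl N53 D80
theorem N81 : nd 81 = n81 := ndS (p := 53) (l := 2) rfl N53 D81
theorem N82 : nd 82 = n82 := ndS (p := 53) (l := 4) rfl N53 D82
theorem N83 : nd 83 = n83 := ndS (p := 54) (l := 3) rfl N54 D83
theorem N84 : nd 84 = n84 := ndS (p := 55) (l := 2) rfl N55 D84
theorem N85 : nd 85 = n85 := ndS (p := 56) (l := 2) rfl N56 D85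
theorem N86 : nd 86 = n86 := ndS (p := 56) (l := 4) rfl N56 D86
theorem N87 : nd 87 = n87 := ndS (p := 57) (l := 1) rfl N57 D87
theorem N88 : nd 88 = n88 := ndS (p := 59) (l := 4) rfl N59 D88
theorem N89 : nd 89 = n89 := ndS (p := 60) (l := 0) rfl N60 D89
theorem N90 : nd 90 = n90 := ndS (p := 60) (l := 3) rfl N60 D90
theorem N91 : nd 91 = n91 := ndS (p := 61) (l := 4) rfl N61 D91
theorem N92 : nd 92 = n92 := ndS (p := 62) (l := 3) rfl N62 D92
theorem N93 : nd 93 = n93 := ndS (p := 63) (l := 4) rfl N63 D93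
theorem N94 : nd 94 = n94 := ndS (p := 64) (l := 3) rfl N64 D94
theorem N95 : nd 95 = n95 := ndS (p := 65) (l := 2) rfl N65 D95
theorem N96 : nd 96 = n96 := ndS (p := 65) (l := 4) rfl N65 D96
theorem N97 : nd 97 = n97 := ndS (p := 66) (l := 1) rfl N66 D97
theorem N98 : nd 98 = n98 := ndS (p := 66) (l := 4) rfl N66 D98
theorem N99 : nd 99 = n99 := ndS (p := 67) (l := 3) rfl N67 D99
theorem N100 : nd 100 = n100 := ndS (p := 68) (l := 1) rfl N68 D100
theorem N101 : nd 101 = n101 := ndS (p := 69) (l := 3) rfl N69 D101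
theorem N102 : nd 102 = n102 := ndS (p := 70) (l := 0) rfl N70 D102
theorem N103 : nd 103 = n103 := ndS (p := 70) (l := 2) rfl N70 D103
theorem N104 : nd 104 = n104 := ndS (p := 70) (l := 4) rfl N70 D104
theorem N105 : nd 105 = n105 := ndS (p := 71) (l := 3) rfl N71 D105
theorem N106 : nd 106 = n106 := ndS (p := 72) (l := 2) rfl N72 D106
theorem N107 : nd 107 = n107 := ndS (p := 73) (l := 2) rfl N73 D107
theorem N108 : nd 108 = n108 := ndS (p := 73) (l := 4) rfl N73 D108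
theorem N109 : nd 109 = n109 := ndS (p := 74) (l := 1) rfl N74 D109
theorem N110 : nd 110 = n110 := ndS (p := 74) (l := 3) rfl N74 D110
theorem N111 : nd 111 = n111 := ndS (p := 74) (l := 4) rfl N74 D111
theorem N112 : nd 112 = n112 := ndS (p := 75) (l := 3) rfl N75 D112
theorem N113 : nd 113 = n113 := ndS (p := 76) (l := 4) rfl N76 D113
theorem N114 : nd 114 = n114 := ndS (p := 77) (l := 0) rfl N77 D114
theorem N115 : nd 115 = n115 := ndS (p := 77) (l := 4) rfl N77 D115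
theorem N116 : nd 116 = n116 := ndS (p := 79) (l := 2) rfl N79 D116
theorem N117 : nd 117 = n117 := ndS (p := 80) (l := 2) rfl N80 D117
theorem N118 : nd 118 = n118 := ndS (p := 80) (l := 4) rfl N80 D118
theorem N119 : nd 119 = n119 := ndS (p := 81) (l := 4) rfl N81 D119
theorem N120 : nd 120 = n120 := ndS (p := 82) (l := 3) rfl N82 D120
theorem N121 : nd 121 = n121 := ndS (p := 83) (l := 2) rfl N83 D121
theorem N122 : nd 122 = n122 := ndS (p := 83) (l := 4) rfl N83 D122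
theorem N123 : nd 123 = n123 := ndS (p := 84) (l := 1) rfl N84 D123
theorem N124 : nd 124 = n124 := ndS (p := 85) (l := 1) rfl N85 D124
theorem N125 : nd 125 = n125 := ndS (p := 85) (l := 3) rfl N85 D125
theorem N126 : nd 126 = n126 := ndS (p := 88) (l := 3) rfl N88 D126
theorem N127 : nd 127 = n127 := ndS (p := 89) (l := 3) rfl N89 D127
theorem N128 : nd 128 = n128 := ndS (p := 90) (l := 2) rfl N90 D128
theorem N129 : nd 129 = n129 := ndS (p := 90) (l := 4) rfl N90 D129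
theorem N130 : nd 130 = n130 := ndS (p := 92) (l := 4) rfl N92 D130
theorem N131 : nd 131 = n131 := ndS (p := 93) (l := 3) rfl N93 D131
theorem N132 : nd 132 = n132 := ndS (p := 95) (l := 1) rfl N95 D132
theorem N133 : nd 133 = n133 := ndS (p := 95) (l := 4) rfl N95 D133
theorem N134 : nd 134 = n134 := ndS (p := 96) (l := 3) rfl N96 D134
theorem N135 : nd 135 = n135 := ndS (p := 97) (l := 0) rfl N97 D135
theorem N136 : nd 136 = n136 := ndS (p := 97) (l := 2) rfl N97 D136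
theorem N137 : nd 137 = n137 := ndS (p := 97) (l := 4) rfl N97 D137
theorem N138 : nd 138 = n138 := ndS (p := 98) (l := 3) rfl N98 D138
theorem N139 : nd 139 = n139 := ndS (p := 99) (l := 2) rfl N99 D139
theorem N140 : nd 140 = n140 := ndS (p := 100) (l := 0) rfl N100 D140
theorem N141 : nd 141 = n141 := ndS (p := 100) (l := 2) rfl N100 D141
theorem N142 : nd 142 = n142 := ndS (p := 102) (l := 2) rfl N102 D142
theorem N143 : nd 143 = n143 := ndS (p := 102) (l := 4) rfl N102 D143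
theorem N144 : nd 144 = n144 := ndS (p := 103) (l := 1) rfl N103 D144
theorem N145 : nd 145 = n145 := ndS (p := 103) (l := 3) rfl N103 D145
theorem N146 : nd 146 = n146 := ndS (p := 103) (l := 4) rfl N103 D146
theorem N147 : nd 147 = n147 := ndS (p := 104) (l := 3) rfl N104 D147
theorem N148 : nd 148 = n148 := ndS (p := 106) (l := 1) rfl N106 D148
theorem N149 : nd 149 = n149 := ndS (p := 107) (l := 1) rfl N107 D149
theorem N150 : nd 150 = n150 := ndS (p := 107) (l := 3) rfl N107 D150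
theorem N151 : nd 151 = n151 := ndS (p := 108) (l := 3) rfl N108 D151
theorem N152 : nd 152 = n152 := ndS (p := 109) (l := 0) rfl N109 D152
theorem N153 : nd 153 = n153 := ndS (p := 110) (l := 4) rfl N110 D153
theorem N154 : nd 154 = n154 := ndS (p := 111) (l := 3) rfl N111 D154
theorem N155 : nd 155 = n155 := ndS (p := 112) (l := 2) rfl N112 D155
theorem N156 : nd 156 = n156 := ndS (p := 112) (l := 4) rfl N112 D156
theorem N157 : nd 157 = n157 := ndS (p := 114) (l := 4) rfl N114 D157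
theorem N158 : nd 158 = n158 := ndS (p := 116) (l := 1) rfl N116 D158
theorem N159 : nd 159 = n159 := ndS (p := 117) (l := 4) rfl N117 D159
theorem N160 : nd 160 = n160 := ndS (p := 118) (l := 3) rfl N118 D160
theorem N161 : nd 161 = n161 := ndS (p := 119) (l := 3) rfl N119 D161
theorem N162 : nd 162 = n162 := ndS (p := 120) (l := 2) rfl N120 D162
theorem N163 : nd 163 = n163 := ndS (p := 120) (l := 4) rfl N120 D163
theorem N164 : nd 164 = n164 := ndS (p := 121) (l := 1) rfl N121 D164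
theorem N165 : nd 165 = n165 := ndS (p := 123) (l := 0) rfl N123 D165
theorem N166 : nd 166 = n166 := ndS (p := 123) (l := 2) rfl N123 D166
theorem N167 : nd 167 = n167 := ndS (p := 124) (l := 0) rfl N124 D167
theorem N168 : nd 168 = n168 := ndS (p := 127) (l := 2) rfl N127 D168
theorem N169 : nd 169 = n169 := ndS (p := 127) (l := 4) rfl N127 D169
theorem N170 : nd 170 = n170 := ndS (p := 128) (l := 1) rfl N128 D170
theorem N171 : nd 171 = n171 := ndS (p := 128) (l := 4) rfl N128 D171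
theorem N172 : nd 172 = n172 := ndS (p := 130) (l := 3) rfl N130 D172
theorem N173 : nd 173 = n173 := ndS (p := 131) (l := 2) rfl N131 D173
theorem N174 : nd 174 = n174 := ndS (p := 132) (l := 0) rfl N132 D174
theorem N175 : nd 175 = n175 := ndS (p := 132) (l := 2) rfl N132 D175
theorem N176 : nd 176 = n176 := ndS (p := 132) (l := 4) rfl N132 D176
theorem N177 : nd 177 = n177 := ndS (p := 133) (l := 3) rfl N133 D177
theorem N178 : nd 178 = n178 := ndS (p := 134) (l := 2) rfl N134 D178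
theorem N179 : nd 179 = n179 := ndS (p := 135) (l := 4) rfl N135 D179
theorem N180 : nd 180 = n180 := ndS (p := 136) (l := 1) rfl N136 D180
theorem N181 : nd 181 = n181 := ndS (p := 136) (l := 4) rfl N136 D181
theorem N182 : nd 182 = n182 := ndS (p := 137) (l := 3) rfl N137 D182
theorem N183 : nd 183 = n183 := ndS (p := 138) (l := 2) rfl N138 D183
theorem N184 : nd 184 = n184 := ndS (p := 139) (l := 1) rfl N139 D184
theorem N185 : nd 185 = n185 := ndS (p := 140) (l := 2) rfl N140 D185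
theorem N186 : nd 186 = n186 := ndS (p := 142) (l := 1) rfl N142 D186
theorem N187 : nd 187 = n187 := ndS (p := 142) (l := 3) rfl N142 D187
theorem N188 : nd 188 = n188 := ndS (p := 142) (l := 4) rfl N142 D188
theorem N189 : nd 189 = n189 := ndS (p := 143) (l := 3) rfl N143 D189
theorem N190 : nd 190 = n190 := ndS (p := 144) (l := 0) rfl N144 D190
theorem N191 : nd 191 = n191 := ndS (p := 144) (l := 4) rfl N144 D191
theorem N192 : nd 192 = n192 := ndS (p := 145) (l := 4) rfl N145 D192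
theorem N193 : nd 193 = n193 := ndS (p := 146) (l := 3) rfl N146 D193
theorem N194 : nd 194 = n194 := ndS (p := 147) (l := 2) rfl N147 D194
theorem N195 : nd 195 = n195 := ndS (p := 149) (l := 3) rfl N149 D195
theorem N196 : nd 196 = n196 := ndS (p := 150) (l := 4) rfl N150 D196
theorem N197 : nd 197 = n197 := ndS (p := 151) (l := 2) rfl N151 D197
theorem N198 : nd 198 = n198 := ndS (p := 151) (l := 4) rfl N151 D198
theorem N199 : nd 199 = n199 := ndS (p := 153) (l := 3) rfl N153 D199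
theorem N200 : nd 200 = n200 := ndS (p := 154) (l := 2) rfl N154 D200
theorem N201 : nd 201 = n201 := ndS (p := 154) (l := 4) rfl N154 D201
theorem N202 : nd 202 = n202 := ndS (p := 155) (l := 1) rfl N155 D202
theorem N203 : nd 203 = n203 := ndS (p := 155) (l := 4) rfl N155 D203
theorem N204 : nd 204 = n204 := ndS (p := 158) (l := 0) rfl N158 D204
theorem N205 : nd 205 = n205 := ndS (p := 158) (l := 2) rfl N158 D205
theorem N206 : nd 206 = n206 := ndS (p := 159) (l := 3) rfl N159 D206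
theorem N207 : nd 207 = n207 := ndS (p := 160) (l := 4) rfl N160 D207
theorem N208 : nd 208 = n208 := ndS (p := 164) (l := 0) rfl N164 D208
theorem N209 : nd 209 = n209 := ndS (p := 164) (l := 2) rfl N164 D209
theorem N210 : nd 210 = n210 := ndS (p := 165) (l := 2) rfl N165 D210
theorem N211 : nd 211 = n211 := ndS (p := 168) (l := 1) rfl N168 D211
theorem N212 : nd 212 = n212 := ndS (p := 168) (l := 4) rfl N168 D212
theorem N213 : nd 213 = n213 := ndS (p := 172) (l := 2) rfl N172 D213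
theorem N214 : nd 214 = n214 := ndS (p := 174) (l := 4) rfl N174 D214
theorem N215 : nd 215 = n215 := ndS (p := 175) (l := 4) rfl N175 D215
theorem N216 : nd 216 = n216 := ndS (p := 177) (l := 2) rfl N177 D216
theorem N217 : nd 217 = n217 := ndS (p := 178) (l := 1) rfl N178 D217
theorem N218 : nd 218 = n218 := ndS (p := 179) (l := 3) rfl N179 D218
theorem N219 : nd 219 = n219 := ndS (p := 180) (l := 4) rfl N180 D219
theorem N220 : nd 220 = n220 := ndS (p := 182) (l := 2) rfl N182 D220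
theorem N221 : nd 221 = n221 := ndS (p := 182) (l := 4) rfl N182 D221
theorem N222 : nd 222 = n222 := ndS (p := 184) (l := 0) rfl N184 D222
theorem N223 : nd 223 = n223 := ndS (p := 184) (l := 2) rfl N184 D223
theorem N224 : nd 224 = n224 := ndS (p := 186) (l := 4) rfl N186 D224
theorem N225 : nd 225 = n225 := ndS (p := 187) (l := 4) rfl N187 D225
theorem N226 : nd 226 = n226 := ndS (p := 188) (l := 3) rfl N188 D226
theorem N227 : nd 227 = n227 := ndS (p := 189) (l := 2) rfl N189 D227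
theorem N228 : nd 228 = n228 := ndS (p := 190) (l := 4) rfl N190 D228
theorem N229 : nd 229 = n229 := ndS (p := 191) (l := 3) rfl N191 D229
theorem N230 : nd 230 = n230 := ndS (p := 192) (l := 3) rfl N192 D230
theorem N231 : nd 231 = n231 := ndS (p := 193) (l := 2) rfl N193 D231
theorem N232 : nd 232 = n232 := ndS (p := 193) (l := 4) rfl N193 D232
theorem N233 : nd 233 = n233 := ndS (p := 194) (l := 1) rfl N194 D233
theorem N234 : nd 234 = n234 := ndS (p := 195) (l := 4) rfl N195 D234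
theorem N235 : nd 235 = n235 := ndS (p := 197) (l := 4) rfl N197 D235
theorem N236 : nd 236 = n236 := ndS (p := 200) (l := 4) rfl N200 D236
theorem N237 : nd 237 = n237 := ndS (p := 201) (l := 3) rfl N201 D237
theorem N238 : nd 238 = n238 := ndS (p := 202) (l := 4) rfl N202 D238
theorem N239 : nd 239 = n239 := ndS (p := 203) (l := 3) rfl N203 D239
theorem N240 : nd 240 = n240 := ndS (p := 204) (l := 2) rfl N204 D240
theorem N241 : nd 241 = n241 := ndS (p := 208) (l := 2) rfl N208 D241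
theorem N242 : nd 242 = n242 := ndS (p := 217) (l := 0) rfl N217 D242
theorem N243 : nd 243 = n243 := ndS (p := 218) (l := 4) rfl N218 D243
theorem N244 : nd 244 = n244 := ndS (p := 220) (l := 1) rfl N220 D244
theorem N245 : nd 245 = n245 := ndS (p := 220) (l := 4) rfl N220 D245
theorem N246 : nd 246 = n246 := ndS (p := 222) (l := 2) rfl N222 D246
theorem N247 : nd 247 = n247 := ndS (p := 223) (l := 3) rfl N223 D247
theorem N248 : nd 248 = n248 := ndS (p := 224) (l := 3) rfl N224 D248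
theorem N249 : nd 249 = n249 := ndS (p := 226) (l := 2) rfl N226 D249
theorem N250 : nd 250 = n250 := ndS (p := 226) (l := 4) rfl N226 D250
theorem N251 : nd 251 = n251 := ndS (p := 228) (l := 3) rfl N228 D251
theorem N252 : nd 252 = n252 := ndS (p := 229) (l := 4) rfl N229 D252
theorem N253 : nd 253 = n253 := ndS (p := 231) (l := 1) rfl N231 D253
theorem N254 : nd 254 = n254 := ndS (p := 231) (l := 4) rfl N231 D254
theorem N255 : nd 255 = n255 := ndS (p := 232) (l := 3) rfl N232 D255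
theorem N256 : nd 256 = n256 := ndS (p := 236) (l := 3) rfl N236 D256
theorem N257 : nd 257 = n257 := ndS (p := 245) (l := 3) rfl N245 D257
theorem N258 : nd 258 = n258 := ndS (p := 246) (l := 3) rfl N246 D258
theorem N259 : nd 259 = n259 := ndS (p := 247) (l := 4) rfl N247 D259
theorem N260 : nd 260 = n260 := ndS (p := 248) (l := 4) rfl N248 D260
theorem N261 : nd 261 = n261 := ndS (p := 249) (l := 4) rfl N249 D261
theorem N262 : nd 262 = n262 := ndS (p := 250) (l := 3) rfl N250 D262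
theorem N263 : nd 263 = n263 := ndS (p := 251) (l := 4) rfl N251 D263
theorem N264 : nd 264 = n264 := ndS (p := 255) (l := 2) rfl N255 D264
theorem N265 : nd 265 = n265 := ndS (p := 256) (l := 4) rfl N256 D265
theorem Q1 : ∀ i, i < 1 → P i := stepQ 0 Q0 (allL N0 (tt N0 F1) (tt N0 F2) (tt N0 F3) (tt N0 F4) (tt N1 D1))
theorem Q2 : ∀ i, i < 2 → P i := stepQ 1 Q1 (allL N1 (tt N1 F5) (tt N1 F6) (tt N1 F7) (tt N2 D2) (tt N0 (iv D1)))
theorem Q3 : ∀ i, i < 3 → P i := stepQ 2 Q2 (allL N2 (tt N2 F8) (tt N2 F9) (tt N3 D3) (tt N1 (iv D2)) (tt N4 D4))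
theorem Q4 : ∀ i, i < 4 → P i := stepQ 3 Q3 (allL N3 (tt N3 F10) (tt N5 D5) (tt N2 (iv D3)) (tt N3 F11) (tt N6 D6))
theorem Q5 : ∀ i, i < 5 → P i := stepQ 4 Q4 (allL N4 (tt N4 F12) (tt N4 F13) (tt N6 (iv F16)) (tt N7 D7) (tt N2 (iv D4)))
theorem Q6 : ∀ i, i < 6 → P i := stepQ 5 Q5 (allL N5 (tt N8 D8) (tt N3 (iv D5)) (tt N9 D9) (tt N5 F14) (tt N10 D10))
theorem Q7 : ∀ i, i < 7 → P i := stepQ 6 Q6 (allL N6 (tt N6 F15) (tt N10 (iv F22)) (tt N4 F16) (tt N11 D11) (tt N3 (iv D6)))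
theorem Q8 : ∀ i, i < 8 → P i := stepQ 7 Q7 (allL N7 (tt N7 F17) (tt N7 F18) (tt N12 D12) (tt N4 (iv D7)) (tt N7 F19))
theorem Q9 : ∀ i, i < 9 → P i := stepQ 8 Q8 (allL N8 (tt N5 (iv D8)) (tt N8 F20) (tt N13 D13) (tt N8 F21) (tt N14 D14))
theorem Q10 : ∀ i, i < 10 → P i := stepQ 9 Q9 (allL N9 (tt N13 (iv F26)) (tt N15 D15) (tt N5 (iv D9)) (tt N15 (iv F30)) (tt N16 D16))
theorem Q11 : ∀ i, i < 11 → P i := stepQ 10 Q10 (allL N10 (tt N14 (iv F27)) (tt N6 F22) (tt N16 (iv F31)) (tt N17 D17) (tt N5 (iv D10)))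
theorem Q12 : ∀ i, i < 12 → P i := stepQ 11 Q11 (allL N11 (tt N11 F23) (tt N17 (iv F32)) (tt N18 D18) (tt N6 (iv D11)) (tt N18 (iv F35)))
theorem Q13 : ∀ i, i < 13 → P i := stepQ 12 Q12 (allL N12 (tt N12 F24) (tt N19 D19) (tt N7 (iv D12)) (tt N18 (iv F34)) (tt N12 F25))
theorem Q14 : ∀ i, i < 14 → P i := stepQ 13 Q13 (allL N13 (tt N9 F26) (tt N20 D20) (tt N8 (iv D13)) (tt N21 D21) (tt N22 D22))
theorem Q15 : ∀ i, i < 15 → P i := stepQ 14 Q14 (allL N14 (tt N10 F27) (tt N14 F28) (tt N22 (iv F40)) (tt N23 D23) (tt N8 (iv D14)))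
theorem Q16 : ∀ i, i < 16 → P i := stepQ 15 Q15 (allL N15 (tt N21 (iv F37)) (tt N9 (iv D15)) (tt N15 F29) (tt N9 F30) (tt N24 D24))
theorem Q17 : ∀ i, i < 17 → P i := stepQ 16 Q16 (allL N16 (tt N22 (iv F39)) (tt N24 (iv F43)) (tt N10 F31) (tt N25 D25) (tt N9 (iv D16)))
theorem Q18 : ∀ i, i < 18 → P i := stepQ 17 Q17 (allL N17 (tt N23 (iv F41)) (tt N11 F32) (tt N26 D26) (tt N10 (iv D17)) (tt N27 D27))
theorem Q19 : ∀ i, i < 19 → P i := stepQ 18 Q18 (allL N18 (tt N18 F33) (tt N27 (iv F45)) (tt N11 (iv D18)) (tt N12 F34) (tt N11 F35))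
theorem Q20 : ∀ i, i < 20 → P i := stepQ 19 Q19 (allL N19 (tt N28 D28) (tt N12 (iv D19)) (tt N29 D29) (tt N27 F46) (tt N19 F36))
theorem Q21 : ∀ i, i < 21 → P i := stepQ 20 Q20 (allL N20 (tt N30 D30) (tt N13 (iv D20)) (tt N30 (iv F51)) (tt N30 F52) (tt N31 D31))
theorem Q22 : ∀ i, i < 22 → P i := stepQ 21 Q21 (allL N21 (tt N15 F37) (tt N30 (iv F50)) (tt N21 F38) (tt N13 (iv D21)) (tt N32 D32))
theorem Q23 : ∀ i, i < 23 → P i := stepQ 22 Q22 (allL N22 (tt N16 F39) (tt N31 (iv F53)) (tt N14 F40) (tt N33 D33) (tt N13 (iv D22)))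
theorem Q24 : ∀ i, i < 24 → P i := stepQ 23 Q23 (allL N23 (tt N17 F41) (tt N23 F42) (tt N34 D34) (tt N14 (iv D23)) (tt N35 D35))
theorem Q25 : ∀ i, i < 25 → P i := stepQ 24 Q24 (allL N24 (tt N32 (iv F54)) (tt N16 F43) (tt N24 F44) (tt N36 D36) (tt N15 (iv D24)))
theorem Q26 : ∀ i, i < 26 → P i := stepQ 25 Q25 (allL N25 (tt N33 (iv F56)) (tt N36 (iv F61)) (tt N37 D37) (tt N16 (iv D25)) (tt N38 D38))
theorem Q27 : ∀ i, i < 27 → P i := stepQ 26 Q26 (allL N26 (tt N34 (iv F57)) (tt N39 D39) (tt N17 (iv D26)) (tt N37 (iv F62)) (tt N40 D40))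
theorem Q28 : ∀ i, i < 28 → P i := stepQ 27 Q27 (allL N27 (tt N35 (iv F58)) (tt N18 F45) (tt N40 (iv F63)) (tt N19 (iv F46)) (tt N17 (iv D27)))
theorem Q29 : ∀ i, i < 29 → P i := stepQ 28 Q28 (allL N28 (tt N19 (iv D28)) (tt N28 F47) (tt N41 D41) (tt N35 F60) (tt N28 F48))
theorem Q30 : ∀ i, i < 30 → P i := stepQ 29 Q29 (allL N29 (tt N41 (iv F64)) (tt N42 D42) (tt N19 (iv D29)) (tt N43 D43) (tt N29 F49))
theorem Q31 : ∀ i, i < 31 → P i := stepQ 30 Q30 (allL N30 (tt N20 (iv D30)) (tt N21 F50) (tt N20 F51) (tt N20 (iv F52)) (tt N44 D44))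
theorem Q32 : ∀ i, i < 32 → P i := stepQ 31 Q31 (allL N31 (tt N44 (iv F68)) (tt N22 F53) (tt N44 (iv F70)) (tt N45 D45) (tt N20 (iv D31)))
theorem Q33 : ∀ i, i < 33 → P i := stepQ 32 Q32 (allL N32 (tt N24 F54) (tt N44 (iv F69)) (tt N32 F55) (tt N46 D46) (tt N21 (iv D32)))
theorem Q34 : ∀ i, i < 34 → P i := stepQ 33 Q33 (allL N33 (tt N25 F56) (tt N45 (iv F71)) (tt N47 D47) (tt N22 (iv D33)) (tt N48 D48))
theorem Q35 : ∀ i, i < 35 → P i := stepQ 34 Q34 (allL N34 (tt N26 F57) (tt N49 D49) (tt N23 (iv D34)) (tt N47 (iv F74)) (tt N50 D50))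
theorem Q36 : ∀ i, i < 36 → P i := stepQ 35 Q35 (allL N35 (tt N27 F58) (tt N35 F59) (tt N50 (iv F77)) (tt N28 (iv F60)) (tt N23 (iv D35)))
theorem Q37 : ∀ i, i < 37 → P i := stepQ 36 Q36 (allL N36 (tt N46 (iv F72)) (tt N25 F61) (tt N51 D51) (tt N24 (iv D36)) (tt N52 D52))
theorem Q38 : ∀ i, i < 38 → P i := stepQ 37 Q37 (allL N37 (tt N47 (iv F73)) (tt N53 D53) (tt N25 (iv D37)) (tt N26 F62) (tt N54 D54))
theorem Q39 : ∀ i, i < 39 → P i := stepQ 38 Q38 (allL N38 (tt N48 (iv F75)) (tt N52 (iv F79)) (tt N54 (iv F81)) (tt N55 D55) (tt N25 (iv D38)))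
theorem Q40 : ∀ i, i < 40 → P i := stepQ 39 Q39 (allL N39 (tt N56 D56) (tt N26 (iv D39)) (tt N57 D57) (tt N53 (iv F80)) (tt N58 D58))
theorem Q41 : ∀ i, i < 41 → P i := stepQ 40 Q40 (allL N40 (tt N50 (iv F76)) (tt N58 (iv F82)) (tt N27 F63) (tt N59 D59) (tt N26 (iv D40)))
theorem Q42 : ∀ i, i < 42 → P i := stepQ 41 Q41 (allL N41 (tt N29 F64) (tt N60 D60) (tt N28 (iv D41)) (tt N61 D61) (tt N41 F65))
theorem Q43 : ∀ i, i < 43 → P i := stepQ 42 Q42 (allL N42 (tt N62 D62) (tt N29 (iv D42)) (tt N42 F66) (tt N63 D63) (tt N42 F67))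
theorem Q44 : ∀ i, i < 44 → P i := stepQ 43 Q43 (allL N43 (tt N61 (iv F85)) (tt N63 (iv F88)) (tt N59 (iv F83)) (tt N29 (iv D43)) (tt N64 D64))
theorem Q45 : ∀ i, i < 45 → P i := stepQ 44 Q44 (allL N44 (tt N31 F68) (tt N32 F69) (tt N31 F70) (tt N65 D65) (tt N30 (iv D44)))
theorem Q46 : ∀ i, i < 46 → P i := stepQ 45 Q45 (allL N45 (tt N65 (iv F89)) (tt N33 F71) (tt N66 D66) (tt N31 (iv D45)) (tt N67 D67))
theorem Q47 : ∀ i, i < 47 → P i := stepQ 46 Q46 (allL N46 (tt N36 F72) (tt N65 (iv F90)) (tt N68 D68) (tt N32 (iv D46)) (tt N69 D69))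
theorem Q48 : ∀ i, i < 48 → P i := stepQ 47 Q47 (allL N47 (tt N37 F73) (tt N70 D70) (tt N33 (iv D47)) (tt N34 F74) (tt N71 D71))
theorem Q49 : ∀ i, i < 49 → P i := stepQ 48 Q48 (allL N48 (tt N38 F75) (tt N67 (iv F91)) (tt N71 (iv F97)) (tt N72 D72) (tt N33 (iv D48)))
theorem Q50 : ∀ i, i < 50 → P i := stepQ 49 Q49 (allL N49 (tt N73 D73) (tt N34 (iv D49)) (tt N74 D74) (tt N70 (iv F95)) (tt N75 D75))
theorem Q51 : ∀ i, i < 51 → P i := stepQ 50 Q50 (allL N50 (tt N40 F76) (tt N75 (iv F100)) (tt N35 F77) (tt N76 D76) (tt N34 (iv D50)))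
theorem Q52 : ∀ i, i < 52 → P i := stepQ 51 Q51 (allL N51 (tt N68 (iv F92)) (tt N77 D77) (tt N36 (iv D51)) (tt N51 F78) (tt N78 D78))
theorem Q53 : ∀ i, i < 53 → P i := stepQ 52 Q52 (allL N52 (tt N69 (iv F94)) (tt N38 F79) (tt N78 (iv F105)) (tt N79 D79) (tt N36 (iv D52)))
theorem Q54 : ∀ i, i < 54 → P i := stepQ 53 Q53 (allL N53 (tt N80 D80) (tt N37 (iv D53)) (tt N81 D81) (tt N39 F80) (tt N82 D82))
theorem Q55 : ∀ i, i < 55 → P i := stepQ 54 Q54 (allL N54 (tt N71 (iv F96)) (tt N82 (iv F111)) (tt N38 F81) (tt N83 D83) (tt N37 (iv D54)))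
theorem Q56 : ∀ i, i < 56 → P i := stepQ 55 Q55 (allL N55 (tt N72 (iv F98)) (tt N79 (iv F106)) (tt N84 D84) (tt N38 (iv D55)) (tt N79 (iv F107)))
theorem Q57 : ∀ i, i < 57 → P i := stepQ 56 Q56 (allL N56 (tt N39 (iv D56)) (tt N73 (iv F99)) (tt N85 D85) (tt N80 (iv F108)) (tt N86 D86))
theorem Q58 : ∀ i, i < 58 → P i := stepQ 57 Q57 (allL N57 (tt N85 (iv F112)) (tt N87 D87) (tt N39 (iv D57)) (tt N87 (iv F115)) (tt N87 F116))
theorem Q59 : ∀ i, i < 59 → P i := stepQ 58 Q58 (allL N58 (tt N86 (iv F113)) (tt N40 F82) (tt N87 (iv F114)) (tt N81 F110) (tt N39 (iv D58)))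
theorem Q60 : ∀ i, i < 60 → P i := stepQ 59 Q59 (allL N59 (tt N76 (iv F101)) (tt N81 (iv F109)) (tt N43 F83) (tt N40 (iv D59)) (tt N88 D88))
theorem Q61 : ∀ i, i < 61 → P i := stepQ 60 Q60 (allL N60 (tt N89 D89) (tt N41 (iv D60)) (tt N89 (iv F120)) (tt N90 D90) (tt N60 F84))
theorem Q62 : ∀ i, i < 62 → P i := stepQ 61 Q61 (allL N61 (tt N43 F85) (tt N90 (iv F121)) (tt N76 (iv F102)) (tt N41 (iv D61)) (tt N91 D91))
theorem Q63 : ∀ i, i < 63 → P i := stepQ 62 Q62 (allL N62 (tt N42 (iv D62)) (tt N89 (iv F118)) (tt N62 F86) (tt N92 D92) (tt N62 F87))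
theorem Q64 : ∀ i, i < 64 → P i := stepQ 63 Q63 (allL N63 (tt N92 (iv F124)) (tt N43 F88) (tt N77 (iv F104)) (tt N42 (iv D63)) (tt N93 D93))
theorem Q65 : ∀ i, i < 65 → P i := stepQ 64 Q64 (allL N64 (tt N91 (iv F122)) (tt N93 (iv F125)) (tt N88 (iv F117)) (tt N94 D94) (tt N43 (iv D64)))
theorem Q66 : ∀ i, i < 66 → P i := stepQ 65 Q65 (allL N65 (tt N45 F89) (tt N46 F90) (tt N95 D95) (tt N44 (iv D65)) (tt N96 D96))
theorem Q67 : ∀ i, i < 67 → P i := stepQ 66 Q66 (allL N66 (tt N95 (iv F129)) (tt N97 D97) (tt N45 (iv D66)) (tt N95 (iv F130)) (tt N98 D98))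
theorem Q68 : ∀ i, i < 68 → P i := stepQ 67 Q67 (allL N67 (tt N96 (iv F131)) (tt N48 F91) (tt N98 (iv F133)) (tt N99 D99) (tt N45 (iv D67)))
theorem Q69 : ∀ i, i < 69 → P i := stepQ 68 Q68 (allL N68 (tt N51 F92) (tt N100 D100) (tt N46 (iv D68)) (tt N68 F93) (tt N94 (iv F128)))
theorem Q70 : ∀ i, i < 70 → P i := stepQ 69 Q69 (allL N69 (tt N52 F94) (tt N96 (iv F132)) (tt N94 (iv F127)) (tt N101 D101) (tt N46 (iv D69)))
theorem Q71 : ∀ i, i < 71 → P i := stepQ 70 Q70 (allL N70 (tt N102 D102) (tt N47 (iv D70)) (tt N103 D103) (tt N49 F95) (tt N104 D104))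
theorem Q72 : ∀ i, i < 72 → P i := stepQ 71 Q71 (allL N71 (tt N54 F96) (tt N104 (iv F140)) (tt N48 F97) (tt N105 D105) (tt N47 (iv D71)))
theorem Q73 : ∀ i, i < 73 → P i := stepQ 72 Q72 (allL N72 (tt N55 F98) (tt N99 (iv F134)) (tt N106 D106) (tt N48 (iv D72)) (tt N101 (iv F137)))
theorem Q74 : ∀ i, i < 74 → P i := stepQ 73 Q73 (allL N73 (tt N49 (iv D73)) (tt N56 F99) (tt N107 D107) (tt N102 (iv F139)) (tt N108 D108))
theorem Q75 : ∀ i, i < 75 → P i := stepQ 74 Q74 (allL N74 (tt N107 (iv F143)) (tt N109 D109) (tt N49 (iv D74)) (tt N110 D110) (tt N111 D111))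
theorem Q76 : ∀ i, i < 76 → P i := stepQ 75 Q75 (allL N75 (tt N108 (iv F144)) (tt N50 F100) (tt N111 (iv F147)) (tt N112 D112) (tt N49 (iv D75)))
theorem Q77 : ∀ i, i < 77 → P i := stepQ 76 Q76 (allL N76 (tt N59 F101) (tt N112 (iv F148)) (tt N61 F102) (tt N50 (iv D76)) (tt N113 D113))
theorem Q78 : ∀ i, i < 78 → P i := stepQ 77 Q77 (allL N77 (tt N114 D114) (tt N51 (iv D77)) (tt N63 F104) (tt N77 F103) (tt N115 D115))
theorem Q79 : ∀ i, i < 79 → P i := stepQ 78 Q78 (allL N78 (tt N94 (iv F126)) (tt N115 (iv F153)) (tt N52 F105) (tt N91 (iv F123)) (tt N51 (iv D78)))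
theorem Q80 : ∀ i, i < 80 → P i := stepQ 79 Q79 (allL N79 (tt N101 (iv F136)) (tt N55 F106) (tt N116 D116) (tt N52 (iv D79)) (tt N55 F107))
theorem Q81 : ∀ i, i < 81 → P i := stepQ 80 Q80 (allL N80 (tt N53 (iv D80)) (tt N102 (iv F138)) (tt N117 D117) (tt N56 F108) (tt N118 D118))
theorem Q82 : ∀ i, i < 82 → P i := stepQ 81 Q81 (allL N81 (tt N117 (iv F157)) (tt N59 F109) (tt N53 (iv D81)) (tt N58 (iv F110)) (tt N119 D119))
theorem Q83 : ∀ i, i < 83 → P i := stepQ 82 Q82 (allL N82 (tt N118 (iv F159)) (tt N54 F111) (tt N119 (iv F161)) (tt N120 D120) (tt N53 (iv D82)))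
theorem Q84 : ∀ i, i < 84 → P i := stepQ 83 Q83 (allL N83 (tt N105 (iv F141)) (tt N120 (iv F162)) (tt N121 D121) (tt N54 (iv D83)) (tt N122 D122))
theorem Q85 : ∀ i, i < 85 → P i := stepQ 84 Q84 (allL N84 (tt N106 (iv F142)) (tt N123 D123) (tt N55 (iv D84)) (tt N121 (iv F163)) (tt N116 (iv F156)))
theorem Q86 : ∀ i, i < 86 → P i := stepQ 85 Q85 (allL N85 (tt N57 F112) (tt N124 D124) (tt N56 (iv D85)) (tt N125 D125) (tt N125 F170))
theorem Q87 : ∀ i, i < 87 → P i := stepQ 86 Q86 (allL N86 (tt N58 F113) (tt N108 (iv F145)) (tt N125 (iv F169)) (tt N117 F158) (tt N56 (iv D86)))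
theorem Q88 : ∀ i, i < 88 → P i := stepQ 87 Q87 (allL N87 (tt N125 (iv F168)) (tt N57 (iv D87)) (tt N58 F114) (tt N57 F115) (tt N57 (iv F116)))
theorem Q89 : ∀ i, i < 89 → P i := stepQ 88 Q88 (allL N88 (tt N113 (iv F149)) (tt N119 (iv F160)) (tt N64 F117) (tt N126 D126) (tt N59 (iv D88)))
theorem Q90 : ∀ i, i < 90 → P i := stepQ 89 Q89 (allL N89 (tt N60 (iv D89)) (tt N62 F118) (tt N60 F120) (tt N127 D127) (tt N89 F119))
theorem Q91 : ∀ i, i < 91 → P i := stepQ 90 Q90 (allL N90 (tt N127 (iv F174)) (tt N61 F121) (tt N128 D128) (tt N60 (iv D90)) (tt N129 D129))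
theorem Q92 : ∀ i, i < 92 → P i := stepQ 91 Q91 (allL N91 (tt N64 F122) (tt N129 (iv F176)) (tt N113 (iv F150)) (tt N78 F123) (tt N61 (iv D91)))
theorem Q93 : ∀ i, i < 93 → P i := stepQ 92 Q92 (allL N92 (tt N63 F124) (tt N127 (iv F175)) (tt N114 (iv F151)) (tt N62 (iv D92)) (tt N130 D130))
theorem Q94 : ∀ i, i < 94 → P i := stepQ 93 Q93 (allL N93 (tt N130 (iv F178)) (tt N64 F125) (tt N115 (iv F154)) (tt N131 D131) (tt N63 (iv D93)))
theorem Q95 : ∀ i, i < 95 → P i := stepQ 94 Q94 (allL N94 (tt N78 F126) (tt N131 (iv F179)) (tt N69 F127) (tt N64 (iv D94)) (tt N68 F128))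
theorem Q96 : ∀ i, i < 96 → P i := stepQ 95 Q95 (allL N95 (tt N66 F129) (tt N132 D132) (tt N65 (iv D95)) (tt N66 F130) (tt N133 D133))
theorem Q97 : ∀ i, i < 97 → P i := stepQ 96 Q96 (allL N96 (tt N67 F131) (tt N69 F132) (tt N133 (iv F183)) (tt N134 D134) (tt N65 (iv D96)))
theorem Q98 : ∀ i, i < 98 → P i := stepQ 97 Q97 (allL N97 (tt N135 D135) (tt N66 (iv D97)) (tt N136 D136) (tt N132 (iv F181)) (tt N137 D137))
theorem Q99 : ∀ i, i < 99 → P i := stepQ 98 Q98 (allL N98 (tt N133 (iv F182)) (tt N137 (iv F187)) (tt N67 F133) (tt N138 D138) (tt N66 (iv D98)))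
theorem Q100 : ∀ i, i < 100 → P i := stepQ 99 Q99 (allL N99 (tt N134 (iv F184)) (tt N72 F134) (tt N139 D139) (tt N67 (iv D99)) (tt N134 (iv F186)))
theorem Q101 : ∀ i, i < 101 → P i := stepQ 100 Q100 (allL N100 (tt N140 D140) (tt N68 (iv D100)) (tt N141 D141) (tt N100 F135) (tt N131 F180))
theorem Q102 : ∀ i, i < 102 → P i := stepQ 101 Q101 (allL N101 (tt N79 F136) (tt N134 (iv F185)) (tt N126 (iv F172)) (tt N69 (iv D101)) (tt N72 F137))
theorem Q103 : ∀ i, i < 103 → P i := stepQ 102 Q102 (allL N102 (tt N70 (iv D102)) (tt N80 F138) (tt N142 D142) (tt N73 F139) (tt N143 D143))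
theorem Q104 : ∀ i, i < 104 → P i := stepQ 103 Q103 (allL N103 (tt N142 (iv F192)) (tt N144 D144) (tt N70 (iv D103)) (tt N145 D145) (tt N146 D146))
theorem Q105 : ∀ i, i < 105 → P i := stepQ 104 Q104 (allL N104 (tt N143 (iv F193)) (tt N71 F140) (tt N146 (iv F196)) (tt N147 D147) (tt N70 (iv D104)))
theorem Q106 : ∀ i, i < 106 → P i := stepQ 105 Q105 (allL N105 (tt N83 F141) (tt N147 (iv F197)) (tt N122 (iv F166)) (tt N71 (iv D105)) (tt N121 (iv F164)))
theorem Q107 : ∀ i, i < 107 → P i := stepQ 106 Q106 (allL N106 (tt N84 F142) (tt N148 D148) (tt N72 (iv D106)) (tt N122 F167) (tt N126 (iv F173)))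
theorem Q108 : ∀ i, i < 108 → P i := stepQ 107 Q107 (allL N107 (tt N74 F143) (tt N149 D149) (tt N73 (iv D107)) (tt N150 D150) (tt N149 (iv F200)))
theorem Q109 : ∀ i, i < 109 → P i := stepQ 108 Q108 (allL N108 (tt N75 F144) (tt N86 F145) (tt N149 F199) (tt N151 D151) (tt N73 (iv D108)))
theorem Q110 : ∀ i, i < 110 → P i := stepQ 109 Q109 (allL N109 (tt N152 D152) (tt N74 (iv D109)) (tt N109 F146) (tt N141 F191) (tt N152 (iv F206)))
theorem Q111 : ∀ i, i < 111 → P i := stepQ 110 Q110 (allL N110 (tt N150 (iv F201)) (tt N141 (iv F190)) (tt N145 (iv F195)) (tt N74 (iv D110)) (tt N153 D153))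
theorem Q112 : ∀ i, i < 112 → P i := stepQ 111 Q111 (allL N111 (tt N149 (iv F198)) (tt N152 (iv F204)) (tt N75 F147) (tt N154 D154) (tt N74 (iv D111)))
theorem Q113 : ∀ i, i < 113 → P i := stepQ 112 Q112 (allL N112 (tt N151 (iv F202)) (tt N76 F148) (tt N155 D155) (tt N75 (iv D112)) (tt N156 D156))
theorem Q114 : ∀ i, i < 114 → P i := stepQ 113 Q113 (allL N113 (tt N88 F149) (tt N156 (iv F207)) (tt N91 F150) (tt N116 (iv F155)) (tt N76 (iv D113)))
theorem Q115 : ∀ i, i < 115 → P i := stepQ 114 Q114 (allL N114 (tt N77 (iv D114)) (tt N140 (iv F188)) (tt N92 F151) (tt N114 F152) (tt N157 D157))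
theorem Q116 : ∀ i, i < 116 → P i := stepQ 115 Q115 (allL N115 (tt N157 (iv F208)) (tt N78 F153) (tt N93 F154) (tt N129 F177) (tt N77 (iv D115)))
theorem Q117 : ∀ i, i < 117 → P i := stepQ 116 Q116 (allL N116 (tt N126 (iv F171)) (tt N158 D158) (tt N79 (iv D116)) (tt N113 F155) (tt N84 F156))
theorem Q118 : ∀ i, i < 118 → P i := stepQ 117 Q117 (allL N117 (tt N81 F157) (tt N151 (iv F203)) (tt N80 (iv D117)) (tt N86 (iv F158)) (tt N159 D159))
theorem Q119 : ∀ i, i < 119 → P i := stepQ 118 Q118 (allL N118 (tt N82 F159) (tt N143 (iv F194)) (tt N159 (iv F213)) (tt N160 D160) (tt N80 (iv D118)))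
theorem Q120 : ∀ i, i < 120 → P i := stepQ 119 Q119 (allL N119 (tt N159 (iv F212)) (tt N88 F160) (tt N82 F161) (tt N161 D161) (tt N81 (iv D119)))
theorem Q121 : ∀ i, i < 121 → P i := stepQ 120 Q120 (allL N120 (tt N160 (iv F214)) (tt N83 F162) (tt N162 D162) (tt N82 (iv D120)) (tt N163 D163))
theorem Q122 : ∀ i, i < 122 → P i := stepQ 121 Q121 (allL N121 (tt N122 (iv F165)) (tt N164 D164) (tt N83 (iv D121)) (tt N84 F163) (tt N105 F164))
theorem Q123 : ∀ i, i < 123 → P i := stepQ 122 Q122 (allL N122 (tt N121 F165) (tt N163 (iv F219)) (tt N105 F166) (tt N106 (iv F167)) (tt N83 (iv D122)))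
theorem Q124 : ∀ i, i < 124 → P i := stepQ 123 Q123 (allL N123 (tt N165 D165) (tt N84 (iv D123)) (tt N166 D166) (tt N164 (iv F221)) (tt N158 (iv F211)))
theorem Q125 : ∀ i, i < 125 → P i := stepQ 124 Q124 (allL N124 (tt N167 D167) (tt N85 (iv D124)) (tt N167 (iv F225)) (tt N167 F226) (tt N167 F227))
theorem Q126 : ∀ i, i < 126 → P i := stepQ 125 Q125 (allL N125 (tt N87 F168) (tt N167 (iv F224)) (tt N86 F169) (tt N85 (iv D125)) (tt N85 (iv F170)))
theorem Q127 : ∀ i, i < 127 → P i := stepQ 126 Q126 (allL N126 (tt N116 F171) (tt N161 (iv F215)) (tt N101 F172) (tt N88 (iv D126)) (tt N106 F173))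
theorem Q128 : ∀ i, i < 128 → P i := stepQ 127 Q127 (allL N127 (tt N90 F174) (tt N92 F175) (tt N168 D168) (tt N89 (iv D127)) (tt N169 D169))
theorem Q129 : ∀ i, i < 129 → P i := stepQ 128 Q128 (allL N128 (tt N168 (iv F228)) (tt N170 D170) (tt N90 (iv D128)) (tt N168 (iv F229)) (tt N171 D171))
theorem Q130 : ∀ i, i < 130 → P i := stepQ 129 Q129 (allL N129 (tt N169 (iv F230)) (tt N91 F176) (tt N171 (iv F235)) (tt N115 (iv F177)) (tt N90 (iv D129)))
theorem Q131 : ∀ i, i < 131 → P i := stepQ 130 Q130 (allL N130 (tt N93 F178) (tt N169 (iv F231)) (tt N157 (iv F209)) (tt N172 D172) (tt N92 (iv D130)))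
theorem Q132 : ∀ i, i < 132 → P i := stepQ 131 Q131 (allL N131 (tt N172 (iv F236)) (tt N94 F179) (tt N173 D173) (tt N93 (iv D131)) (tt N100 (iv F180)))
theorem Q133 : ∀ i, i < 133 → P i := stepQ 132 Q132 (allL N132 (tt N174 D174) (tt N95 (iv D132)) (tt N175 D175) (tt N97 F181) (tt N176 D176))
theorem Q134 : ∀ i, i < 134 → P i := stepQ 133 Q133 (allL N133 (tt N98 F182) (tt N176 (iv F246)) (tt N96 F183) (tt N177 D177) (tt N95 (iv D133)))
theorem Q135 : ∀ i, i < 135 → P i := stepQ 134 Q134 (allL N134 (tt N99 F184) (tt N101 F185) (tt N178 D178) (tt N96 (iv D134)) (tt N99 F186))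
theorem Q136 : ∀ i, i < 136 → P i := stepQ 135 Q135 (allL N135 (tt N97 (iv D135)) (tt N174 (iv F242)) (tt N170 F234) (tt N174 (iv F243)) (tt N179 D179))
theorem Q137 : ∀ i, i < 137 → P i := stepQ 136 Q136 (allL N136 (tt N170 (iv F233)) (tt N180 D180) (tt N97 (iv D136)) (tt N180 (iv F254)) (tt N181 D181))
theorem Q138 : ∀ i, i < 138 → P i := stepQ 137 Q137 (allL N137 (tt N179 (iv F252)) (tt N98 F187) (tt N181 (iv F255)) (tt N182 D182) (tt N97 (iv D137)))
theorem Q139 : ∀ i, i < 139 → P i := stepQ 138 Q138 (allL N138 (tt N177 (iv F248)) (tt N182 (iv F256)) (tt N183 D183) (tt N98 (iv D138)) (tt N183 (iv F258)))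
theorem Q140 : ∀ i, i < 140 → P i := stepQ 139 Q139 (allL N139 (tt N178 (iv F250)) (tt N184 D184) (tt N99 (iv D139)) (tt N183 (iv F257)) (tt N178 (iv F251)))
theorem Q141 : ∀ i, i < 141 → P i := stepQ 140 Q140 (allL N140 (tt N100 (iv D140)) (tt N114 F188) (tt N185 D185) (tt N140 F189) (tt N172 F238))
theorem Q142 : ∀ i, i < 142 → P i := stepQ 141 Q141 (allL N141 (tt N185 (iv F259)) (tt N110 F190) (tt N100 (iv D141)) (tt N109 (iv F191)) (tt N173 (iv F240)))
theorem Q143 : ∀ i, i < 143 → P i := stepQ 142 Q142 (allL N142 (tt N103 F192) (tt N186 D186) (tt N102 (iv D142)) (tt N187 D187) (tt N188 D188))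
theorem Q144 : ∀ i, i < 144 → P i := stepQ 143 Q143 (allL N143 (tt N104 F193) (tt N118 F194) (tt N188 (iv F265)) (tt N189 D189) (tt N102 (iv D143)))
theorem Q145 : ∀ i, i < 145 → P i := stepQ 144 Q144 (allL N144 (tt N190 D190) (tt N103 (iv D144)) (tt N180 (iv F253)) (tt N175 F245) (tt N191 D191))
theorem Q146 : ∀ i, i < 146 → P i := stepQ 145 Q145 (allL N145 (tt N187 (iv F262)) (tt N175 (iv F244)) (tt N110 F195) (tt N103 (iv D145)) (tt N192 D192))
theorem Q147 : ∀ i, i < 147 → P i := stepQ 146 Q146 (allL N146 (tt N188 (iv F264)) (tt N191 (iv F268)) (tt N104 F196) (tt N193 D193) (tt N103 (iv D146)))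
theorem Q148 : ∀ i, i < 148 → P i := stepQ 147 Q147 (allL N147 (tt N189 (iv F266)) (tt N105 F197) (tt N194 D194) (tt N104 (iv D147)) (tt N164 (iv F222)))
theorem Q149 : ∀ i, i < 149 → P i := stepQ 148 Q148 (allL N148 (tt N162 (iv F218)) (tt N106 (iv D148)) (tt N160 (iv F217)) (tt N163 (iv F220)) (tt N161 F216))
theorem Q150 : ∀ i, i < 150 → P i := stepQ 149 Q149 (allL N149 (tt N111 F198) (tt N107 (iv D149)) (tt N108 (iv F199)) (tt N195 D195) (tt N107 F200))
theorem Q151 : ∀ i, i < 151 → P i := stepQ 150 Q150 (allL N150 (tt N110 F201) (tt N195 (iv F271)) (tt N187 (iv F263)) (tt N107 (iv D150)) (tt N196 D196))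
theorem Q152 : ∀ i, i < 152 → P i := stepQ 151 Q151 (allL N151 (tt N112 F202) (tt N117 F203) (tt N197 D197) (tt N108 (iv D151)) (tt N198 D198))
theorem Q153 : ∀ i, i < 153 → P i := stepQ 152 Q152 (allL N152 (tt N109 (iv D152)) (tt N111 F204) (tt N152 F205) (tt N185 (iv F261)) (tt N109 F206))
theorem Q154 : ∀ i, i < 154 → P i := stepQ 153 Q153 (allL N153 (tt N196 (iv F273)) (tt N173 F241) (tt N192 (iv F269)) (tt N199 D199) (tt N110 (iv D153)))
theorem Q155 : ∀ i, i < 155 → P i := stepQ 154 Q154 (allL N154 (tt N195 (iv F270)) (tt N185 (iv F260)) (tt N200 D200) (tt N111 (iv D154)) (tt N201 D201))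
theorem Q156 : ∀ i, i < 156 → P i := stepQ 155 Q155 (allL N155 (tt N197 (iv F274)) (tt N202 D202) (tt N112 (iv D155)) (tt N200 (iv F285)) (tt N203 D203))
theorem Q157 : ∀ i, i < 157 → P i := stepQ 156 Q156 (allL N156 (tt N198 (iv F277)) (tt N113 F207) (tt N203 (iv F290)) (tt N158 (iv F210)) (tt N112 (iv D156)))
theorem Q158 : ∀ i, i < 158 → P i := stepQ 157 Q157 (allL N157 (tt N115 F208) (tt N172 (iv F237)) (tt N130 F209) (tt N169 F232) (tt N114 (iv D157)))
theorem Q159 : ∀ i, i < 159 → P i := stepQ 158 Q158 (allL N158 (tt N204 D204) (tt N116 (iv D158)) (tt N205 D205) (tt N156 F210) (tt N123 F211))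
theorem Q160 : ∀ i, i < 160 → P i := stepQ 159 Q159 (allL N159 (tt N119 F212) (tt N198 (iv F278)) (tt N118 F213) (tt N206 D206) (tt N117 (iv D159)))
theorem Q161 : ∀ i, i < 161 → P i := stepQ 160 Q160 (allL N160 (tt N120 F214) (tt N189 (iv F267)) (tt N148 F217) (tt N118 (iv D160)) (tt N207 D207))
theorem Q162 : ∀ i, i < 162 → P i := stepQ 161 Q161 (allL N161 (tt N206 (iv F294)) (tt N126 F215) (tt N207 (iv F299)) (tt N119 (iv D161)) (tt N148 (iv F216)))
theorem Q163 : ∀ i, i < 163 → P i := stepQ 162 Q162 (allL N162 (tt N148 F218) (tt N165 (iv F223)) (tt N120 (iv D162)) (tt N207 (iv F300)) (tt N206 (iv F297)))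
theorem Q164 : ∀ i, i < 164 → P i := stepQ 163 Q163 (allL N163 (tt N207 (iv F298)) (tt N122 F219) (tt N206 (iv F296)) (tt N148 F220) (tt N120 (iv D163)))
theorem Q165 : ∀ i, i < 165 → P i := stepQ 164 Q164 (allL N164 (tt N208 D208) (tt N121 (iv D164)) (tt N209 D209) (tt N123 F221) (tt N147 F222))
theorem Q166 : ∀ i, i < 166 → P i := stepQ 165 Q165 (allL N165 (tt N123 (iv D165)) (tt N162 F223) (tt N210 D210) (tt N208 (iv F302)) (tt N204 (iv F292)))
theorem Q167 : ∀ i, i < 167 → P i := stepQ 166 Q166 (allL N166 (tt N210 (iv F305)) (tt N177 (iv F249)) (tt N123 (iv D166)) (tt N176 (iv F247)) (tt N205 (iv F293)))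
theorem Q168 : ∀ i, i < 168 → P i := stepQ 167 Q167 (allL N167 (tt N124 (iv D167)) (tt N125 F224) (tt N124 F225) (tt N124 (iv F226)) (tt N124 (iv F227)))
theorem Q169 : ∀ i, i < 169 → P i := stepQ 168 Q168 (allL N168 (tt N128 F228) (tt N211 D211) (tt N127 (iv D168)) (tt N128 F229) (tt N212 D212))
theorem Q170 : ∀ i, i < 170 → P i := stepQ 169 Q169 (allL N169 (tt N129 F230) (tt N130 F231) (tt N212 (iv F310)) (tt N157 (iv F232)) (tt N127 (iv D169)))
theorem Q171 : ∀ i, i < 171 → P i := stepQ 170 Q170 (allL N170 (tt N136 F233) (tt N128 (iv D170)) (tt N135 (iv F234)) (tt N211 (iv F308)) (tt N199 F280))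
theorem Q172 : ∀ i, i < 172 → P i := stepQ 171 Q171 (allL N171 (tt N212 (iv F309)) (tt N199 (iv F279)) (tt N129 F235) (tt N173 (iv F239)) (tt N128 (iv D171)))
theorem Q173 : ∀ i, i < 173 → P i := stepQ 172 Q172 (allL N172 (tt N131 F236) (tt N157 F237) (tt N213 D213) (tt N130 (iv D172)) (tt N140 (iv F238)))
theorem Q174 : ∀ i, i < 174 → P i := stepQ 173 Q173 (allL N173 (tt N213 (iv F311)) (tt N153 (iv F241)) (tt N131 (iv D173)) (tt N171 F239) (tt N141 F240))
theorem Q175 : ∀ i, i < 175 → P i := stepQ 174 Q174 (allL N174 (tt N132 (iv D174)) (tt N135 F242) (tt N202 (iv F288)) (tt N135 F243) (tt N214 D214))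
theorem Q176 : ∀ i, i < 176 → P i := stepQ 175 Q175 (allL N175 (tt N202 (iv F287)) (tt N145 F244) (tt N132 (iv D175)) (tt N144 (iv F245)) (tt N215 D215))
theorem Q177 : ∀ i, i < 177 → P i := stepQ 176 Q176 (allL N176 (tt N214 (iv F315)) (tt N133 F246) (tt N215 (iv F319)) (tt N166 F247) (tt N132 (iv D176)))
theorem Q178 : ∀ i, i < 178 → P i := stepQ 177 Q177 (allL N177 (tt N138 F248) (tt N166 F249) (tt N216 D216) (tt N133 (iv D177)) (tt N216 (iv F324)))
theorem Q179 : ∀ i, i < 179 → P i := stepQ 178 Q178 (allL N178 (tt N139 F250) (tt N217 D217) (tt N134 (iv D178)) (tt N216 (iv F323)) (tt N139 F251))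
theorem Q180 : ∀ i, i < 180 → P i := stepQ 179 Q179 (allL N179 (tt N137 F252) (tt N214 (iv F316)) (tt N199 F282) (tt N218 D218) (tt N135 (iv D179)))
theorem Q181 : ∀ i, i < 181 → P i := stepQ 180 Q180 (allL N180 (tt N211 (iv F306)) (tt N136 (iv D180)) (tt N144 F253) (tt N136 F254) (tt N219 D219))
theorem Q182 : ∀ i, i < 182 → P i := stepQ 181 Q181 (allL N181 (tt N199 (iv F281)) (tt N219 (iv F329)) (tt N137 F255) (tt N196 F283) (tt N136 (iv D181)))
theorem Q183 : ∀ i, i < 183 → P i := stepQ 182 Q182 (allL N182 (tt N218 (iv F327)) (tt N138 F256) (tt N220 D220) (tt N137 (iv D182)) (tt N221 D221))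
theorem Q184 : ∀ i, i < 184 → P i := stepQ 183 Q183 (allL N183 (tt N216 (iv F321)) (tt N221 (iv F331)) (tt N138 (iv D183)) (tt N139 F257) (tt N138 F258))
theorem Q185 : ∀ i, i < 185 → P i := stepQ 184 Q184 (allL N184 (tt N222 D222) (tt N139 (iv D184)) (tt N223 D223) (tt N221 (iv F332)) (tt N217 (iv F326)))
theorem Q186 : ∀ i, i < 186 → P i := stepQ 185 Q185 (allL N185 (tt N141 F259) (tt N154 F260) (tt N140 (iv D185)) (tt N152 F261) (tt N213 (iv F313)))
theorem Q187 : ∀ i, i < 187 → P i := stepQ 186 Q186 (allL N186 (tt N200 (iv F284)) (tt N142 (iv D186)) (tt N195 (iv F272)) (tt N197 (iv F276)) (tt N224 D224))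
theorem Q188 : ∀ i, i < 188 → P i := stepQ 187 Q187 (allL N187 (tt N145 F262) (tt N197 (iv F275)) (tt N150 F263) (tt N142 (iv D187)) (tt N225 D225))
theorem Q189 : ∀ i, i < 189 → P i := stepQ 188 Q188 (allL N188 (tt N146 F264) (tt N224 (iv F333)) (tt N143 F265) (tt N226 D226) (tt N142 (iv D188)))
theorem Q190 : ∀ i, i < 190 → P i := stepQ 189 Q189 (allL N189 (tt N147 F266) (tt N160 F267) (tt N227 D227) (tt N143 (iv D189)) (tt N208 (iv F303)))
theorem Q191 : ∀ i, i < 191 → P i := stepQ 190 Q190 (allL N190 (tt N144 (iv D190)) (tt N200 (iv F286)) (tt N211 (iv F307)) (tt N202 (iv F289)) (tt N228 D228))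
theorem Q192 : ∀ i, i < 192 → P i := stepQ 191 Q191 (allL N191 (tt N228 (iv F340)) (tt N146 F268) (tt N219 (iv F330)) (tt N229 D229) (tt N144 (iv D191)))
theorem Q193 : ∀ i, i < 193 → P i := stepQ 192 Q192 (allL N192 (tt N225 (iv F334)) (tt N215 (iv F318)) (tt N153 F269) (tt N230 D230) (tt N145 (iv D192)))
theorem Q194 : ∀ i, i < 194 → P i := stepQ 193 Q193 (allL N193 (tt N226 (iv F337)) (tt N229 (iv F341)) (tt N231 D231) (tt N146 (iv D193)) (tt N232 D232))
theorem Q195 : ∀ i, i < 195 → P i := stepQ 194 Q194 (allL N194 (tt N227 (iv F338)) (tt N233 D233) (tt N147 (iv D194)) (tt N231 (iv F345)) (tt N209 (iv F304)))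
theorem Q196 : ∀ i, i < 196 → P i := stepQ 195 Q195 (allL N195 (tt N154 F270) (tt N150 F271) (tt N186 F272) (tt N149 (iv D195)) (tt N234 D234))
theorem Q197 : ∀ i, i < 197 → P i := stepQ 196 Q196 (allL N196 (tt N153 F273) (tt N234 (iv F348)) (tt N225 (iv F335)) (tt N181 (iv F283)) (tt N150 (iv D196)))
theorem Q198 : ∀ i, i < 198 → P i := stepQ 197 Q197 (allL N197 (tt N155 F274) (tt N187 F275) (tt N151 (iv D197)) (tt N186 F276) (tt N235 D235))
theorem Q199 : ∀ i, i < 199 → P i := stepQ 198 Q198 (allL N198 (tt N156 F277) (tt N159 F278) (tt N235 (iv F353)) (tt N204 (iv F291)) (tt N151 (iv D198)))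
theorem Q200 : ∀ i, i < 200 → P i := stepQ 199 Q199 (allL N199 (tt N181 F281) (tt N171 F279) (tt N179 (iv F282)) (tt N153 (iv D199)) (tt N170 (iv F280)))
theorem Q201 : ∀ i, i < 201 → P i := stepQ 200 Q200 (allL N200 (tt N186 F284) (tt N190 F286) (tt N154 (iv D200)) (tt N155 F285) (tt N236 D236))
theorem Q202 : ∀ i, i < 202 → P i := stepQ 201 Q201 (allL N201 (tt N234 (iv F347)) (tt N213 F314) (tt N236 (iv F356)) (tt N237 D237) (tt N154 (iv D201)))
theorem Q203 : ∀ i, i < 203 → P i := stepQ 202 Q202 (allL N202 (tt N175 F287) (tt N155 (iv D202)) (tt N174 F288) (tt N190 F289) (tt N238 D238))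
theorem Q204 : ∀ i, i < 204 → P i := stepQ 203 Q203 (allL N203 (tt N235 (iv F351)) (tt N238 (iv F362)) (tt N156 F290) (tt N239 D239) (tt N155 (iv D203)))
theorem Q205 : ∀ i, i < 205 → P i := stepQ 204 Q204 (allL N204 (tt N158 (iv D204)) (tt N206 (iv F295)) (tt N240 D240) (tt N198 F291) (tt N165 F292))
theorem Q206 : ∀ i, i < 206 → P i := stepQ 205 Q205 (allL N205 (tt N240 (iv F366)) (tt N216 (iv F322)) (tt N158 (iv D205)) (tt N217 (iv F325)) (tt N166 F293))
theorem Q207 : ∀ i, i < 207 → P i := stepQ 206 Q206 (allL N206 (tt N161 F294) (tt N204 F295) (tt N163 F296) (tt N159 (iv D206)) (tt N162 F297))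
theorem Q208 : ∀ i, i < 208 → P i := stepQ 207 Q207 (allL N207 (tt N163 F298) (tt N208 (iv F301)) (tt N161 F299) (tt N162 F300) (tt N160 (iv D207)))
theorem Q209 : ∀ i, i < 209 → P i := stepQ 208 Q208 (allL N208 (tt N164 (iv D208)) (tt N207 F301) (tt N241 D241) (tt N165 F302) (tt N189 F303))
theorem Q210 : ∀ i, i < 210 → P i := stepQ 209 Q209 (allL N209 (tt N241 (iv F368)) (tt N230 (iv F343)) (tt N164 (iv D209)) (tt N215 (iv F320)) (tt N194 F304))
theorem Q211 : ∀ i, i < 211 → P i := stepQ 210 Q210 (allL N210 (tt N166 F305) (tt N218 (iv F328)) (tt N165 (iv D210)) (tt N214 (iv F317)) (tt N240 (iv F367)))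
theorem Q212 : ∀ i, i < 212 → P i := stepQ 211 Q211 (allL N211 (tt N180 F306) (tt N168 (iv D211)) (tt N190 F307) (tt N170 F308) (tt N237 (iv F359)))
theorem Q213 : ∀ i, i < 213 → P i := stepQ 212 Q212 (allL N212 (tt N171 F309) (tt N237 (iv F358)) (tt N169 F310) (tt N213 (iv F312)) (tt N168 (iv D212)))
theorem Q214 : ∀ i, i < 214 → P i := stepQ 213 Q213 (allL N213 (tt N173 F311) (tt N201 (iv F314)) (tt N172 (iv D213)) (tt N212 F312) (tt N185 F313))
theorem Q215 : ∀ i, i < 215 → P i := stepQ 214 Q214 (allL N214 (tt N176 F315) (tt N179 F316) (tt N238 (iv F363)) (tt N210 F317) (tt N174 (iv D214)))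
theorem Q216 : ∀ i, i < 216 → P i := stepQ 215 Q215 (allL N215 (tt N238 (iv F361)) (tt N192 F318) (tt N176 F319) (tt N209 F320) (tt N175 (iv D215)))
theorem Q217 : ∀ i, i < 217 → P i := stepQ 216 Q216 (allL N216 (tt N183 F321) (tt N205 F322) (tt N177 (iv D216)) (tt N178 F323) (tt N177 F324))
theorem Q218 : ∀ i, i < 218 → P i := stepQ 217 Q217 (allL N217 (tt N242 D242) (tt N178 (iv D217)) (tt N239 (iv F364)) (tt N205 F325) (tt N184 F326))
theorem Q219 : ∀ i, i < 219 → P i := stepQ 218 Q218 (allL N218 (tt N182 F327) (tt N210 F328) (tt N230 (iv F344)) (tt N179 (iv D218)) (tt N243 D243))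
theorem Q220 : ∀ i, i < 220 → P i := stepQ 219 Q219 (allL N219 (tt N237 (iv F357)) (tt N181 F329) (tt N191 F330) (tt N234 (iv F350)) (tt N180 (iv D219)))
theorem Q221 : ∀ i, i < 221 → P i := stepQ 220 Q220 (allL N220 (tt N230 (iv F342)) (tt N244 D244) (tt N182 (iv D220)) (tt N225 F336) (tt N245 D245))
theorem Q222 : ∀ i, i < 222 → P i := stepQ 221 Q221 (allL N221 (tt N243 (iv F375)) (tt N183 F331) (tt N245 (iv F383)) (tt N184 F332) (tt N182 (iv D221)))
theorem Q223 : ∀ i, i < 223 → P i := stepQ 222 Q222 (allL N222 (tt N184 (iv D222)) (tt N242 (iv F372)) (tt N246 D246) (tt N243 (iv F378)) (tt N242 (iv F374)))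
theorem Q224 : ∀ i, i < 224 → P i := stepQ 223 Q223 (allL N223 (tt N246 (iv F384)) (tt N227 (iv F339)) (tt N184 (iv D223)) (tt N247 D247) (tt N239 (iv F365)))
theorem Q225 : ∀ i, i < 225 → P i := stepQ 224 Q224 (allL N224 (tt N236 (iv F354)) (tt N188 F333) (tt N234 (iv F349)) (tt N248 D248) (tt N186 (iv D224)))
theorem Q226 : ∀ i, i < 226 → P i := stepQ 225 Q225 (allL N225 (tt N192 F334) (tt N235 (iv F352)) (tt N196 F335) (tt N220 (iv F336)) (tt N187 (iv D225)))
theorem Q227 : ∀ i, i < 227 → P i := stepQ 226 Q226 (allL N226 (tt N193 F337) (tt N248 (iv F387)) (tt N249 D249) (tt N188 (iv D226)) (tt N250 D250))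
theorem Q228 : ∀ i, i < 228 → P i := stepQ 227 Q227 (allL N227 (tt N194 F338) (tt N223 F339) (tt N189 (iv D227)) (tt N249 (iv F390)) (tt N241 (iv F371)))
theorem Q229 : ∀ i, i < 229 → P i := stepQ 228 Q228 (allL N228 (tt N191 F340) (tt N236 (iv F355)) (tt N237 (iv F360)) (tt N251 D251) (tt N190 (iv D228)))
theorem Q230 : ∀ i, i < 230 → P i := stepQ 229 Q229 (allL N229 (tt N251 (iv F393)) (tt N193 F341) (tt N248 (iv F388)) (tt N191 (iv D229)) (tt N252 D252))
theorem Q231 : ∀ i, i < 231 → P i := stepQ 230 Q230 (allL N230 (tt N220 F342) (tt N209 F343) (tt N218 F344) (tt N192 (iv D230)) (tt N233 (iv F346)))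
theorem Q232 : ∀ i, i < 232 → P i := stepQ 231 Q231 (allL N231 (tt N249 (iv F389)) (tt N253 D253) (tt N193 (iv D231)) (tt N194 F345) (tt N254 D254))
theorem Q233 : ∀ i, i < 233 → P i := stepQ 232 Q232 (allL N232 (tt N250 (iv F392)) (tt N252 (iv F394)) (tt N254 (iv F396)) (tt N255 D255) (tt N193 (iv D232)))
theorem Q234 : ∀ i, i < 234 → P i := stepQ 233 Q233 (allL N233 (tt N245 (iv F382)) (tt N194 (iv D233)) (tt N243 (iv F377)) (tt N253 (iv F395)) (tt N230 F346))
theorem Q235 : ∀ i, i < 235 → P i := stepQ 234 Q234 (allL N234 (tt N201 F347) (tt N196 F348) (tt N224 F349) (tt N219 F350) (tt N195 (iv D234)))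
theorem Q236 : ∀ i, i < 236 → P i := stepQ 235 Q235 (allL N235 (tt N203 F351) (tt N225 F352) (tt N198 F353) (tt N244 (iv F380)) (tt N197 (iv D235)))
theorem Q237 : ∀ i, i < 237 → P i := stepQ 236 Q236 (allL N236 (tt N224 F354) (tt N228 F355) (tt N201 F356) (tt N256 D256) (tt N200 (iv D236)))
theorem Q238 : ∀ i, i < 238 → P i := stepQ 237 Q237 (allL N237 (tt N219 F357) (tt N212 F358) (tt N228 F360) (tt N201 (iv D237)) (tt N211 F359))
theorem Q239 : ∀ i, i < 239 → P i := stepQ 238 Q238 (allL N238 (tt N215 F361) (tt N203 F362) (tt N214 F363) (tt N241 (iv F370)) (tt N202 (iv D238)))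
theorem Q240 : ∀ i, i < 240 → P i := stepQ 239 Q239 (allL N239 (tt N244 (iv F379)) (tt N241 (iv F369)) (tt N217 F364) (tt N203 (iv D239)) (tt N223 F365))
theorem Q241 : ∀ i, i < 241 → P i := stepQ 240 Q240 (allL N240 (tt N205 F366) (tt N243 (iv F376)) (tt N204 (iv D240)) (tt N242 (iv F373)) (tt N210 F367))
theorem Q242 : ∀ i, i < 242 → P i := stepQ 241 Q241 (allL N241 (tt N209 F368) (tt N239 F369) (tt N208 (iv D241)) (tt N238 F370) (tt N227 F371))
theorem Q243 : ∀ i, i < 243 → P i := stepQ 242 Q242 (allL N242 (tt N217 (iv D242)) (tt N222 F372) (tt N244 F381) (tt N240 F373) (tt N222 F374))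
theorem Q244 : ∀ i, i < 244 → P i := stepQ 243 Q243 (allL N243 (tt N221 F375) (tt N240 F376) (tt N233 F377) (tt N222 F378) (tt N218 (iv D243)))
theorem Q245 : ∀ i, i < 245 → P i := stepQ 244 Q244 (allL N244 (tt N239 F379) (tt N220 (iv D244)) (tt N242 (iv F381)) (tt N235 F380) (tt N246 (iv F386)))
theorem Q246 : ∀ i, i < 246 → P i := stepQ 245 Q245 (allL N245 (tt N233 F382) (tt N246 (iv F385)) (tt N221 F383) (tt N257 D257) (tt N220 (iv D245)))
theorem Q247 : ∀ i, i < 247 → P i := stepQ 246 Q246 (allL N246 (tt N223 F384) (tt N245 F385) (tt N222 (iv D246)) (tt N258 D258) (tt N244 F386))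
theorem Q248 : ∀ i, i < 248 → P i := stepQ 247 Q247 (allL N247 (tt N258 (iv F405)) (tt N249 (iv F391)) (tt N257 (iv F404)) (tt N223 (iv D247)) (tt N259 D259))
theorem Q249 : ∀ i, i < 249 → P i := stepQ 248 Q248 (allL N248 (tt N256 (iv F400)) (tt N226 F387) (tt N229 F388) (tt N224 (iv D248)) (tt N260 D260))
theorem Q250 : ∀ i, i < 250 → P i := stepQ 249 Q249 (allL N249 (tt N231 F389) (tt N247 F391) (tt N226 (iv D249)) (tt N227 F390) (tt N261 D261))
theorem Q251 : ∀ i, i < 251 → P i := stepQ 250 Q250 (allL N250 (tt N232 F392) (tt N260 (iv F408)) (tt N261 (iv F412)) (tt N262 D262) (tt N226 (iv D250)))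
theorem Q252 : ∀ i, i < 252 → P i := stepQ 251 Q251 (allL N251 (tt N229 F393) (tt N256 (iv F401)) (tt N256 (iv F402)) (tt N228 (iv D251)) (tt N263 D263))
theorem Q253 : ∀ i, i < 253 → P i := stepQ 252 Q252 (allL N252 (tt N263 (iv F416)) (tt N232 F394) (tt N260 (iv F409)) (tt N254 (iv F397)) (tt N229 (iv D252)))
theorem Q254 : ∀ i, i < 254 → P i := stepQ 253 Q253 (allL N253 (tt N257 (iv F403)) (tt N231 (iv D253)) (tt N258 (iv F407)) (tt N233 F395) (tt N255 (iv F399)))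
theorem Q255 : ∀ i, i < 255 → P i := stepQ 254 Q254 (allL N254 (tt N261 (iv F410)) (tt N255 (iv F398)) (tt N232 F396) (tt N252 F397) (tt N231 (iv D254)))
theorem Q256 : ∀ i, i < 256 → P i := stepQ 255 Q255 (allL N255 (tt N262 (iv F413)) (tt N254 F398) (tt N264 D264) (tt N232 (iv D255)) (tt N253 F399))
theorem Q257 : ∀ i, i < 257 → P i := stepQ 256 Q256 (allL N256 (tt N248 F400) (tt N251 F401) (tt N251 F402) (tt N236 (iv D256)) (tt N265 D265))
theorem Q258 : ∀ i, i < 258 → P i := stepQ 257 Q257 (allL N257 (tt N253 F403) (tt N258 (iv F406)) (tt N247 F404) (tt N245 (iv D257)) (tt N262 (iv F414)))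
theorem Q259 : ∀ i, i < 259 → P i := stepQ 258 Q258 (allL N258 (tt N247 F405) (tt N257 F406) (tt N253 F407) (tt N246 (iv D258)) (tt N264 (iv F421)))
theorem Q260 : ∀ i, i < 260 → P i := stepQ 259 Q259 (allL N259 (tt N264 (iv F418)) (tt N261 (iv F411)) (tt N262 (iv F415)) (tt N265 (iv F425)) (tt N247 (iv D259)))
theorem Q261 : ∀ i, i < 261 → P i := stepQ 260 Q260 (allL N260 (tt N265 (iv F422)) (tt N250 F408) (tt N252 F409) (tt N264 (iv F420)) (tt N248 (iv D260)))
theorem Q262 : ∀ i, i < 262 → P i := stepQ 261 Q261 (allL N261 (tt N254 F410) (tt N259 F411) (tt N250 F412) (tt N263 (iv F417)) (tt N249 (iv D261)))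
theorem Q263 : ∀ i, i < 263 → P i := stepQ 262 Q262 (allL N262 (tt N255 F413) (tt N264 (iv F419)) (tt N259 F415) (tt N250 (iv D262)) (tt N257 F414))
theorem Q264 : ∀ i, i < 264 → P i := stepQ 263 Q263 (allL N263 (tt N252 F416) (tt N265 (iv F423)) (tt N265 (iv F424)) (tt N261 F417) (tt N251 (iv D263)))
theorem Q265 : ∀ i, i < 265 → P i := stepQ 264 Q264 (allL N264 (tt N259 F418) (tt N262 F419) (tt N255 (iv D264)) (tt N260 F420) (tt N258 F421))
theorem Q266 : ∀ i, i < 266 → P i := stepQ 265 Q265 (allL N265 (tt N260 F422) (tt N263 F423) (tt N263 F424) (tt N259 F425) (tt N256 (iv D265)))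

theorem closedN : ∀ i, i < N → P i := Q266

end Cfsg.Agent.Helper17.J1PTC
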